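import Cfsg.Agent.H885.FT.Cube
import Cfsg.Agent.H387.RB.Inst
import Cfsg.Agent.H210.F43.TabAll
import Cfsg.Agent.H186.F43.Mzero
import Cfsg.Agent.H625.RB.Fix12
import Cfsg.Agent.H194.RB.Inv
import Cfsg.Agent.H358.RB.Conj

/-!
# The ratio bound for `F₄(3)` (helper885; second line for H194/RB/Plug)
-/

set_option autoImplicit false

namespace Cfsg.Agent.H885.FT

open Cfsg Cfsg.Lie Cfsg.Agent.Characters Subgroup Cfsg.Agent.H65.Ore
open Cfsg.Agent.H323.Pw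
open CoxeterSystem Cfsg.Agent.Nodes.RGDChev Cfsg.Agent.KFacts.RgdChevCoord Cfsg.Agent.H537.Pw
open Cfsg.Agent.H700.F43 Cfsg.Agent.H267.SpFx Cfsg.Agent.H150.F43.Step Cfsg.Agent.H98.Pw Cfsg.Agent.H98.F43
open Cfsg.Agent.H750.F43 (CZ G3 zz xt xa eb)
open Cfsg.Agent.H980.RB Module

universe u v

section

variable {V : Type v} [AddCommGroup V] [Module ℂ V] [FiniteDimensional ℂ V]

/-- the numbers of the ratio bound -/
theorem nums (ρ : Representation ℂ Gm V) (h : H186.F43.fx ρ Set.univ = ⊥) :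
    ∃ (a b m A : ℝ), 0 ≤ m ∧ 0 ≤ A ∧ a = A + m ∧ (finrank ℂ V : ℝ) = a + 2 * b ∧ (finrank ℂ ↥(fixM ρ {xp 47}) : ℝ) = a ∧
      A ≤ 280 / 243 * b ∧ m ≤ 13 / 243 * b ∧
      ∀ q ∈ (QQ : Subgroup Gm), q ∉ zpowers (xp 47 : Gm) → ‖LinearMap.trace ℂ V (ρ q)‖ ≤ m + 37 / 280 * A := by
  classical
  have F := H387.RB.frG
  set D := H387.RB.Dm F ρ with hD
  have h0 : ∀ μ, 0 ≤ D μ := H387.RB.Dm_nonneg F ρ
  have hi : H92.RB.Inv D := H387.RB.inv_Dm F ρ (fun A X hX u v => H194.RB.BB_act hX u v)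
  have hm : D 0 = (finrank ℂ ↥(fixM ρ ((QQ : Subgroup Gm) : Set Gm)) : ℝ) := H387.RB.Dm_zero F ρ
  have hA : H92.RB.AA D = (finrank ℂ ↥(fixM ρ {(xp 47 : Gm)}) : ℝ) -
    finrank ℂ ↥(fixM ρ ((QQ : Subgroup Gm) : Set Gm)) := H387.RB.AA_Dm F ρ
  have ht := H387.RB.trace_z F ρ (H387.RB.trace_zp2 ρ)
  have hA0 : 0 ≤ H92.RB.AA D := Finset.sum_nonneg fun μ _ => h0 μ
  have h24 : LinearMap.trace ℂ V (ρ (xp 47)) = ((H92.RB.FT D (Pi.single 0 1) : ℝ) : ℂ) := by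
    obtain ⟨w, hw⟩ := H358.RB.exists_w
    have h1 : kap (xp 24) = (Pi.single 0 1 : V14) := kap_xp 0
    have h2 : (xp 24 : Gm) ∈ (QQ : Subgroup Gm) := xp_mem (ord14_mem 0)
    have h3 : (xp 24 : Gm) ∉ zpowers (xp 47 : Gm) := by
      intro h3
      have h4 := (F.ker _ h2).2 h3
      rw [h1] at h4
      have h5 := congrFun h4 0
      rw [Pi.single_eq_same] at h5
      exact one_ne_zero h5
    rw [← h1, ← H387.RB.trace_eq_FT F ρ h2 h3, ← hw, H387.RB.trace_conj]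
  rw [h24] at ht
  have ht' : 3 * (finrank ℂ ↥(fixM ρ {(xp 47 : Gm)}) : ℝ) = finrank ℂ V + 2 * H92.RB.FT D (Pi.single 0 1) := by
    exact_mod_cast ht
  have hfx : H186.F43.fx ρ ((QQ : Subgroup Gm) : Set Gm) = fixM ρ ((QQ : Subgroup Gm) : Set Gm) := rfl
  have hm0 := H186.F43.m0_le ρ h
  rw [hfx, ← hm, h24, Complex.ofReal_re] at hm0
  have hr := (H210.F43.tab_root D h0 hi).2
  refine ⟨finrank ℂ ↥(fixM ρ {(xp 47 : Gm)}), ((finrank ℂ V : ℝ) - H92.RB.FT D (Pi.single 0 1)) / 3, D 0, H92.RB.AA D,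
    h0 0, hA0, ?_, ?_, rfl, ?_, hm0, fun q hq hz => ?_⟩
  · rw [hA, hm]; ring
  · linarith
  · rw [← hm] at hA
    linarith
  · have h1 : kap q ≠ 0 := fun h1 => hz ((F.ker q hq).1 h1)
    rw [H387.RB.trace_eq_FT F ρ hq hz, Complex.norm_real, Real.norm_eq_abs]
    exact H210.F43.tab_all D h0 hi h1

/-- **the ratio bound** on `Q` -/
theorem ratio_QQ (ρ : Representation ℂ Gm V) (h : H186.F43.fx ρ Set.univ = ⊥) {q : Gm} (hq : q ∈ (QQ : Subgroup Gm))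
    (hz : q ∉ zpowers (xp 47 : Gm)) : 11 * ‖LinearMap.trace ℂ V (ρ q)‖ ≤ finrank ℂ V := by
  obtain ⟨a, b, m, A, hm, hA, ha, hn, -, h1, h2, hB⟩ := nums ρ h
  have h3 := hB q hq hz
  rw [hn, ha]
  linarith

/-- **the ratio bound** on `C(z)` -/
theorem ratio_PP (ρ : Representation ℂ Gm V) (h : H186.F43.fx ρ Set.univ = ⊥) {g : ↥PP} (hg : ff g ≠ 1)
    (hor : (∃ y ∈ ff.ker, y * g * y⁻¹ = g * zP) ∨ Nat.card (FixX ff.ker zP g) ≤ 3 ^ 9) :
    11 * ‖LinearMap.trace ℂ V (ρ (g : Gm))‖ ≤ finrank ℂ V := by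
  obtain ⟨a, b, m, A, hm, hA, ha, hn, haf, h1, h2, hB⟩ := nums ρ h
  set σ : Representation ℂ ↥PP V := (ρ : Gm →* (V →ₗ[ℂ] V)).comp PP.subtype with hσ
  have hX := xs_ff dat
  have hQ : (Nat.card ff.ker : ℝ) = 3 ^ 15 := by rw [card_ker dat]; norm_num
  have hB' : ∀ q ∈ ff.ker, q ∉ zpowers zP → ‖LinearMap.trace ℂ V (σ q)‖ ≤ m + 37 / 280 * A := by
    intro q hq hz
    refine hB q (ker_mem.1 hq) fun h => hz ?_
    rw [mem_zpowers_iff] at h ⊢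
    obtain ⟨k, hk⟩ := h
    exact ⟨k, Subtype.ext hk⟩
  have hB0 : 0 ≤ m + 37 / 280 * A := by positivity
  have heig : (finrank ℂ ↥(eigM σ zP 1) : ℝ) = a := by
    have h3 : eigM σ zP 1 = fixM ρ {(xp 47 : Gm)} := by
      ext v
      rw [mem_eigM, mem_fixM, one_smul]
      constructor
      · rintro h4 s rfl
        exact h4
      · intro h4
        exact h4 (xp 47) rfl
    rw [h3, haf]
  rcases hor with ⟨y, hy, hyg⟩ | hfix
  · have h12 : (Nat.card (FixX ff.ker zP g) : ℝ) ≤ 1 / 27 * Nat.card ff.ker := by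
      have h4 : ((Nat.card (FixX ff.ker zP g) : ℕ) : ℝ) ≤ ((3 ^ 12 : ℕ) : ℝ) := by exact_mod_cast H625.RB.fix12 g hg
      rw [hQ]
      refine h4.trans ?_
      norm_num
    have hcm : y * g * y⁻¹ * g⁻¹ = zP := by
      rw [hyg, hX.central g, mul_inv_cancel_right]
    have h5 := tr_conj_gen hX σ g hB0 hB' h12 (x := y) (by rw [hcm]; exact mem_zpowers _) (by
      rw [hcm]
      intro h6
      have h7 := hX.ord
      rw [h6, orderOf_one] at h7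
      omega)
    rw [heig] at h5
    have h6 : ‖LinearMap.trace ℂ V (ρ (g : Gm))‖ ≤ 1 / 27 * a + (m + 37 / 280 * A) := h5
    rw [hn]
    rw [ha] at h6 ⊢
    linarith
  · have h9 : (Nat.card (FixX ff.ker zP g) : ℝ) ≤ (1 / 27) ^ 2 * Nat.card ff.ker := by
      have h4 : ((Nat.card (FixX ff.ker zP g) : ℕ) : ℝ) ≤ ((3 ^ 9 : ℕ) : ℝ) := by exact_mod_cast hfix
      rw [hQ]
      refine h4.trans ?_
      norm_num
    have h5 := tr_fix_gen hX σ g hB0 hB' (s := 1 / 27) (by norm_num) h9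
    rw [heig] at h5
    have h6 : ‖LinearMap.trace ℂ V (ρ (g : Gm))‖ ≤ (1 / 27) ^ 2 * a + (m + 37 / 280 * A) + (finrank ℂ V - a) * (1 / 27) := h5
    rw [hn] at h6 ⊢
    rw [ha] at h6 ⊢
    linarith

end

theorem fx_bot {m : ℕ} (ρ : Representation ℂ Gm (Fin m → ℂ)) (hρ : ρ.IsIrreducible) (hne : ∃ g, ρ g ≠ 1) :
    H186.F43.fx ρ Set.univ = ⊥ := by
  have hs : IsSimpleOrder (Subrepresentation ρ) := hρ
  let W : Subrepresentation ρ := ⟨H186.F43.fx ρ Set.univ, fun g v hv => by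
    rw [hv g (Set.mem_univ g)]
    exact hv⟩
  rcases hs.eq_bot_or_eq_top W with h1 | h1
  · exact congrArg Subrepresentation.toSubmodule h1
  · exfalso
    obtain ⟨g, hg⟩ := hne
    apply hg
    have h2 : H186.F43.fx ρ Set.univ = ⊤ := congrArg Subrepresentation.toSubmodule h1
    apply LinearMap.ext
    intro v
    have h3 : v ∈ H186.F43.fx ρ Set.univ := by rw [h2]; trivial
    exact h3 g (Set.mem_univ g)

theorem char_one_norm {m : ℕ} (ρ : Representation ℂ Gm (Fin m → ℂ)) : ‖ρ.character 1‖ = (finrank ℂ (Fin m → ℂ) : ℝ) := by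
  rw [Representation.char_one, Complex.norm_natCast]

/-- **The ratio bound (RB)** -/
theorem RB (χ : IrrCharacter G3) (hχ : χ ≠ one1 G3) (g : ↥PP) (hg : ff g ≠ 1)
    (hor : (∃ y ∈ ff.ker, y * g * y⁻¹ = g * zP) ∨ Nat.card (FixX ff.ker zP g) ≤ 3 ^ 9) :
    11 * ‖(χ : G3 → ℂ) (g : G3)‖ ≤ ‖(χ : G3 → ℂ) 1‖ := by
  refine irr_of_rep (P := fun f => 11 * ‖f (g : G3)‖ ≤ ‖f 1‖) (fun m ρ hρ hne => ?_) χ hχ
  rw [char_one_norm]
  exact ratio_PP ρ (fx_bot ρ hρ hne) hg hor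

/-- **The ratio bound (RBQ)** -/
theorem RBQ (χ : IrrCharacter G3) (hχ : χ ≠ one1 G3) (q : G3) (hq : q ∈ (QQ : Subgroup G3)) (hz : q ∉ zpowers (zz : G3)) :
    11 * ‖(χ : G3 → ℂ) q‖ ≤ ‖(χ : G3 → ℂ) 1‖ := by
  refine irr_of_rep (P := fun f => 11 * ‖f q‖ ≤ ‖f 1‖) (fun m ρ hρ hne => ?_) χ hχ
  rw [char_one_norm]
  exact ratio_QQ ρ (fx_bot ρ hρ hne) hq hz

/-- **S2452 and S2464, row `F₄(3)`** -/
theorem row3_F4_three {K : Type u} [Field K] (hK : Nat.card K = 3) : H210.TC.Row3 ↥(chevF4.group K) :=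
  row3_of_RB RB RBQ hK

/-- **S2464, row `F₄(3)`** -/
theorem t6_F4_three {K : Type u} [Field K] (hK : Nat.card K = 3) : H777.T6.T6 ↥(chevF4.group K) :=
  t6_of_RB RB RBQ hK

end Cfsg.Agent.H885.FT
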