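import Cfsg.Agent.H885.FT.Row
import Cfsg.Agent.H290.Six.F43Red
import Cfsg.Agent.H38.RB.Conj

/-!
# The row `F₄(3)` of S2464 from the ratio bound (RB) (helper885)

`t6_of_RB` : the ratio bound `11 ‖χ(g)‖ ≤ ‖χ(1)‖` for the elements `g` of `C(z)` with `ff g ≠ 1` that are conjugate to `g z`
under `Q` or have `|FixX g| ≤ 3⁹`, and for the elements of `Q` outside `⟨z⟩`, gives `T6 F₄(3)`.
-/

set_option autoImplicit false

namespace Cfsg.Agent.H885.FT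

open Cfsg Cfsg.Lie Cfsg.Agent.Characters Subgroup Cfsg.Agent.H65.Ore Cfsg.Agent.H777.T6
open Cfsg.Agent.H323.Pw
open CoxeterSystem Cfsg.Agent.Nodes.RGDChev Cfsg.Agent.KFacts.RgdChevCoord Cfsg.Agent.H537.Pw
open Cfsg.Agent.H700.F43 Cfsg.Agent.H267.SpFx Cfsg.Agent.H150.F43.Step Cfsg.Agent.H98.Pw Cfsg.Agent.H98.F43
open Cfsg.Agent.H750.F43 (CZ G3 zz xt xa eb)

universe u

/-- **S2464, row `F₄(3)`**, from the ratio bound. -/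
theorem t6_of_RB
    (RB : ∀ χ : IrrCharacter G3, χ ≠ one1 G3 → ∀ g : ↥PP, ff g ≠ 1 →
      ((∃ y ∈ ff.ker, y * g * y⁻¹ = g * zP) ∨ Nat.card (FixX ff.ker zP g) ≤ 3 ^ 9) →
      11 * ‖(χ : G3 → ℂ) (g : G3)‖ ≤ ‖(χ : G3 → ℂ) 1‖)
    (RBQ : ∀ χ : IrrCharacter G3, χ ≠ one1 G3 → ∀ q ∈ (QQ : Subgroup G3), q ∉ zpowers (zz : G3) →
      11 * ‖(χ : G3 → ℂ) q‖ ≤ ‖(χ : G3 → ℂ) 1‖) {K : Type u} [Field K] (hK : Nat.card K = 3) :
    T6 ↥(chevF4.group K) := by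
  refine t6_three (RT := fun g => (∃ u : ↥PP, (u : G3) = g ∧ ff u ≠ 1 ∧
      ((∃ y ∈ ff.ker, y * u * y⁻¹ = u * zP) ∨ Nat.card (FixX ff.ker zP u) ≤ 3 ^ 9)) ∨
      ∃ a d : F3, a ≠ 0 ∧ g = xa a * xt d) ?_ ?_ hK
  · intro P CJ SMALL RATIO g h3
    refine H290.Six.F43.reduce (P := fun g => 3 ∣ orderOf g → P g) ?_ ?_ ?_ ?_ g h3 h3
    · intro a b hab hb ha
      obtain ⟨c, rfl⟩ := isConj_iff.1 hab
      refine CJ a _ hab (hb ?_)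
      rwa [H290.Six.F43.orderOf_conj]
    · exact fun g h3 hc _ => SMALL g h3 hc
    · exact fun g h3 hg hor _ => RATIO g h3 (Or.inl ⟨g, rfl, hg, hor⟩)
    · exact fun a d ha h3 => RATIO _ h3 (Or.inr ⟨a, d, ha, rfl⟩)
  · rintro g - (⟨u, rfl, hu, hor⟩ | ⟨a, d, ha, rfl⟩) χ hχ
    · exact RB χ hχ u hu hor
    · obtain ⟨x, q, hq, hq', he⟩ := H38.RB.u4 a d ha
      have h1 := RBQ χ hχ q hq hq'
      rw [← he, Core.isIrr_isClassFunction χ.2] at h1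
      exact h1

end Cfsg.Agent.H885.FT
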