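import Cfsg.Agent.H65.Ore.Split
import Cfsg.Agent.Characters.GaloisIrr

/-!
# The class product sum is constant along the powers (S2464, F4(3), helper885)

* `pw` : the Galois conjugate of an irreducible character;
* `SS x y g` : `∑ χ(x) χ(y) conj χ(g) / χ(1)`;
* `SS_avg` : for `x`, `y` of exact prime orders `p`, `r`, `g` of order prime to `p`, `r`: `SS x y g = ∑ A_χ B_χ conj χ(g) / χ(1)` where
  `A_χ`, `B_χ` are the means over the nontrivial powers of `x`, `y`;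
* `sum_av_sq` : `∑ ‖A_χ‖² = e c / (p - 1)`.
-/

set_option autoImplicit false

namespace Cfsg.Agent.H885.FT

open Cfsg Cfsg.Agent.Characters Subgroup Cfsg.Agent.H65.Ore
open scoped ComplexConjugate

universe u

variable {G : Type u} [Group G]

/-- the mean of `χ` over the nontrivial powers -/
noncomputable def av (p : ℕ) (x : G) (χ : IrrCharacter G) : ℂ :=
  (∑ i ∈ Finset.Ico 1 p, (χ : G → ℂ) (x ^ i)) / ((p : ℂ) - 1)

variable [Finite G]

/-- The Galois conjugate. -/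
def pw {m : ℕ} (hm : m.Coprime (Nat.card G)) (χ : IrrCharacter G) : IrrCharacter G :=
  ⟨fun g => (χ : G → ℂ) (g ^ m), Cfsg.Agent.Characters.GaloisIrr.isIrr_pow hm χ.2⟩

theorem pw_apply {m : ℕ} (hm : m.Coprime (Nat.card G)) (χ : IrrCharacter G) (g : G) :
    (pw hm χ : G → ℂ) g = (χ : G → ℂ) (g ^ m) := rfl

theorem pw_bij {m : ℕ} (hm : m.Coprime (Nat.card G)) :
    Function.Bijective (pw hm : IrrCharacter G → IrrCharacter G) := by
  have := Core.finite_irr (G := G)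
  refine Finite.injective_iff_bijective.1 ?_
  intro χ ψ h
  refine Subtype.ext (funext fun g => ?_)
  obtain ⟨x, rfl⟩ := (powCoprime hm.symm).surjective g
  exact congrFun (congrArg Subtype.val h) x

/-- the structure sum -/
noncomputable def SS [Fintype (IrrCharacter G)] (x y g : G) : ℂ :=
  ∑ χ : IrrCharacter G, (χ : G → ℂ) x * (χ : G → ℂ) y * conj ((χ : G → ℂ) g) / (χ : G → ℂ) 1

theorem SS_pow [Fintype (IrrCharacter G)] {m : ℕ} (hm : m.Coprime (Nat.card G)) (x y g : G) :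
    SS (x ^ m) (y ^ m) (g ^ m) = SS x y g := by
  unfold SS
  rw [← Function.Bijective.sum_comp (pw_bij hm)
    (fun χ : IrrCharacter G => (χ : G → ℂ) x * (χ : G → ℂ) y * conj ((χ : G → ℂ) g) / (χ : G → ℂ) 1)]
  refine Finset.sum_congr rfl fun χ _ => ?_
  rw [pw_apply, pw_apply, pw_apply, pw_apply, one_pow]

theorem exists_exp {p n i : ℕ} (hp : p.Prime) (hn : ¬ p ∣ n) (hi : i ∈ Finset.Ico 1 p) :
    ∃ m : ℕ, m.Coprime (p * n) ∧ m ≡ i [MOD p] ∧ m ≡ 1 [MOD n] := by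
  rw [Finset.mem_Ico] at hi
  obtain ⟨m, h1, h2⟩ := Nat.chineseRemainder ((hp.coprime_iff_not_dvd).2 hn) i 1
  refine ⟨m, Nat.Coprime.mul_right ?_ ?_, h1, h2⟩
  · have h3 : Nat.gcd m p = Nat.gcd i p := h1.gcd_eq
    have h4 : Nat.gcd i p = 1 := Nat.Coprime.symm (Nat.coprime_of_lt_prime (by omega) hi.2 hp)
    rw [Nat.Coprime, h3, h4]
  · have h3 : Nat.gcd m n = Nat.gcd 1 n := h2.gcd_eq
    rw [Nat.Coprime, h3, Nat.gcd_one_left]

theorem SS_left [Fintype (IrrCharacter G)] {p n i : ℕ} (hp : p.Prime) (hn : ¬ p ∣ n) (hG : Nat.card G = p * n)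
    (hi : i ∈ Finset.Ico 1 p) {x y g : G} (hx : orderOf x = p) (hy : orderOf y ∣ n) (hg : orderOf g ∣ n) :
    SS (x ^ i) y g = SS x y g := by
  obtain ⟨m, hm, h1, h2⟩ := exists_exp hp hn hi
  rw [← hG] at hm
  have h3 : x ^ m = x ^ i := pow_eq_pow_iff_modEq.2 (by rw [hx]; exact h1)
  have h4 : ∀ z : G, orderOf z ∣ n → z ^ m = z := by
    intro z hz
    conv_rhs => rw [← pow_one z]
    exact pow_eq_pow_iff_modEq.2 (h2.of_dvd hz)
  have h5 := SS_pow hm x y g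
  rwa [h3, h4 y hy, h4 g hg] at h5

theorem SS_comm [Fintype (IrrCharacter G)] (x y g : G) : SS x y g = SS y x g := by
  unfold SS
  exact Finset.sum_congr rfl fun χ _ => by rw [mul_comm ((χ : G → ℂ) x)]

theorem SS_avg [Fintype (IrrCharacter G)] {p n r n' : ℕ} (hp : p.Prime) (hn : ¬ p ∣ n) (hG : Nat.card G = p * n)
    (hr : r.Prime) (hn' : ¬ r ∣ n') (hG' : Nat.card G = r * n')
    {x y g : G} (hx : orderOf x = p) (hy : orderOf y = r) (hpr : p ≠ r) (hg : ¬ p ∣ orderOf g)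
    (hg' : ¬ r ∣ orderOf g) :
    SS x y g = ∑ χ : IrrCharacter G, av p x χ * av r y χ * (conj ((χ : G → ℂ) g) / (χ : G → ℂ) 1) := by
  have hdvd : ∀ {s k : ℕ}, s.Prime → Nat.card G = s * k → ∀ z : G, ¬ s ∣ orderOf z → orderOf z ∣ k := by
    intro s k hs hk z hz
    have h1 : orderOf z ∣ s * k := by rw [← hk]; exact orderOf_dvd_natCard z
    exact (Nat.Coprime.symm ((hs.coprime_iff_not_dvd).2 hz)).dvd_of_dvd_mul_left h1
  have hyn : orderOf y ∣ n := hdvd hp hG y (by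
    rw [hy]; exact fun h => hpr ((Nat.prime_dvd_prime_iff_eq hp hr).1 h))
  have hxn : orderOf x ∣ n' := hdvd hr hG' x (by
    rw [hx]; exact fun h => hpr ((Nat.prime_dvd_prime_iff_eq hr hp).1 h).symm)
  have hgn := hdvd hp hG g hg
  have hgn' := hdvd hr hG' g hg'
  have h1 : ∀ i ∈ Finset.Ico 1 p, ∀ j ∈ Finset.Ico 1 r, SS (x ^ i) (y ^ j) g = SS x y g := by
    intro i hi j hj
    rw [SS_comm, SS_left hr hn' hG' hj hy ((orderOf_pow_dvd i).trans hxn) hgn', SS_comm,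
      SS_left hp hn hG hi hx hyn hgn]
  have hp1 : ((p : ℂ) - 1) ≠ 0 := by
    rw [sub_ne_zero]; exact_mod_cast hp.one_lt.ne'
  have hr1 : ((r : ℂ) - 1) ≠ 0 := by
    rw [sub_ne_zero]; exact_mod_cast hr.one_lt.ne'
  have h2 : ∑ i ∈ Finset.Ico 1 p, ∑ j ∈ Finset.Ico 1 r, SS (x ^ i) (y ^ j) g = ((p : ℂ) - 1) * ((r : ℂ) - 1) * SS x y g := by
    rw [Finset.sum_congr rfl fun i hi => Finset.sum_congr rfl fun j hj => h1 i hi j hj]
    simp only [Finset.sum_const, Nat.card_Ico, nsmul_eq_mul]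
    rw [Nat.cast_sub hp.one_le, Nat.cast_sub hr.one_le]
    push_cast
    ring
  have h3 : ∑ i ∈ Finset.Ico 1 p, ∑ j ∈ Finset.Ico 1 r, SS (x ^ i) (y ^ j) g =
      ∑ χ : IrrCharacter G, (∑ i ∈ Finset.Ico 1 p, (χ : G → ℂ) (x ^ i)) * (∑ j ∈ Finset.Ico 1 r, (χ : G → ℂ) (y ^ j)) *
        (conj ((χ : G → ℂ) g) / (χ : G → ℂ) 1) := by
    unfold SS
    rw [Finset.sum_congr rfl fun i _ => Finset.sum_comm, Finset.sum_comm]
    refine Finset.sum_congr rfl fun χ _ => ?_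
    rw [Finset.sum_mul_sum, Finset.sum_mul]
    refine Finset.sum_congr rfl fun i _ => ?_
    rw [Finset.sum_mul]
    refine Finset.sum_congr rfl fun j _ => ?_
    ring
  rw [h3] at h2
  have h4 : SS x y g = (((p : ℂ) - 1) * ((r : ℂ) - 1))⁻¹ * (((p : ℂ) - 1) * ((r : ℂ) - 1) * SS x y g) := by
    rw [← mul_assoc, inv_mul_cancel₀ (mul_ne_zero hp1 hr1), one_mul]
  rw [h4, ← h2, Finset.mul_sum]
  refine Finset.sum_congr rfl fun χ _ => ?_
  unfold av
  field_simp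

open Classical in
/-- **The energy of the means.** -/
theorem sum_av_sq [Fintype (IrrCharacter G)] {p : ℕ} (hp : p.Prime) {x : G} {e c : ℕ}
    (he : ∀ j ∈ Finset.Ico 1 p, ((Finset.Ico 1 p).filter fun i => IsConj (x ^ i) (x ^ j)).card = e)
    (hc : ∀ j ∈ Finset.Ico 1 p, Nat.card (centralizer ({x ^ j} : Set G)) = c) :
    ∑ χ : IrrCharacter G, ‖av p x χ‖ ^ 2 = e * c / ((p : ℝ) - 1) := by
  have hp1 : ((p : ℝ) - 1) ≠ 0 := by
    rw [sub_ne_zero]; exact_mod_cast hp.one_lt.ne'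
  have h1 : ∑ χ : IrrCharacter G, (∑ i ∈ Finset.Ico 1 p, (χ : G → ℂ) (x ^ i)) *
      conj (∑ j ∈ Finset.Ico 1 p, (χ : G → ℂ) (x ^ j)) = ((p : ℂ) - 1) * (e * c) := by
    have h2 : ∀ χ : IrrCharacter G, (∑ i ∈ Finset.Ico 1 p, (χ : G → ℂ) (x ^ i)) *
        conj (∑ j ∈ Finset.Ico 1 p, (χ : G → ℂ) (x ^ j)) =
        ∑ j ∈ Finset.Ico 1 p, ∑ i ∈ Finset.Ico 1 p, (χ : G → ℂ) (x ^ i) * conj ((χ : G → ℂ) (x ^ j)) := by
      intro χ
      rw [map_sum, Finset.sum_mul_sum, Finset.sum_comm]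
    rw [Finset.sum_congr rfl fun χ _ => h2 χ, Finset.sum_comm]
    have h3 : ∀ j ∈ Finset.Ico 1 p, ∑ χ : IrrCharacter G, ∑ i ∈ Finset.Ico 1 p,
        (χ : G → ℂ) (x ^ i) * conj ((χ : G → ℂ) (x ^ j)) = e * c := by
      intro j hj
      rw [Finset.sum_comm]
      rw [Finset.sum_congr rfl fun i _ => H686.CharKit.col_orth (x ^ i) (x ^ j), hc j hj, ← Finset.sum_filter,
        Finset.sum_const, he j hj, nsmul_eq_mul]
    rw [Finset.sum_congr rfl h3, Finset.sum_const, Nat.card_Ico, nsmul_eq_mul, Nat.cast_sub hp.one_le]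
    push_cast
    ring
  have h4 : ∀ χ : IrrCharacter G, ((‖av p x χ‖ ^ 2 : ℝ) : ℂ) = (((p : ℂ) - 1) ^ 2)⁻¹ *
      ((∑ i ∈ Finset.Ico 1 p, (χ : G → ℂ) (x ^ i)) * conj (∑ j ∈ Finset.Ico 1 p, (χ : G → ℂ) (x ^ j))) := by
    intro χ
    rw [Complex.mul_conj, ← Complex.normSq_eq_norm_sq, av, Complex.normSq_div]
    have h5 : Complex.normSq ((p : ℂ) - 1) = ((p : ℝ) - 1) ^ 2 := by
      rw [show ((p : ℂ) - 1) = (((p : ℝ) - 1 : ℝ) : ℂ) by push_cast; ring, Complex.normSq_ofReal, sq]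
    rw [h5]
    push_cast
    rw [div_eq_inv_mul]
  have h6 : ((∑ χ : IrrCharacter G, ‖av p x χ‖ ^ 2 : ℝ) : ℂ) = ((e * c / ((p : ℝ) - 1) : ℝ) : ℂ) := by
    rw [Complex.ofReal_sum, Finset.sum_congr rfl fun χ _ => h4 χ, ← Finset.mul_sum, h1]
    have hp2 : ((p : ℂ) - 1) ≠ 0 := by
      rw [sub_ne_zero]; exact_mod_cast hp.one_lt.ne'
    push_cast
    field_simp
  exact_mod_cast h6

end Cfsg.Agent.H885.FT
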