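import Cfsg.Agent.H885.FT.Avg

/-!
# Conjugate powers of an element of exact prime order (S2464, F4(3), helper885)

* `card_conj_pow` : `#{i : x^i ~ x^j} = e`, `e = (|G| / |C(x)|) mod p`;
* `card_cent_pow` : the powers have the same centralizer;
* `norm_av_le` : `‖A_χ‖ ≤ 1` for a self-centralizing exact prime.
-/

set_option autoImplicit false

namespace Cfsg.Agent.H885.FT

open Cfsg Cfsg.Agent.Characters Subgroup Cfsg.Agent.H65.Ore
open Cfsg.Agent.SmallSimple.PrimeLocal
open scoped ComplexConjugate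

universe u

variable {G : Type u} [Group G]

/-- the fibre of the conjugation map -/
def fibEquiv (g0 z : G) : {g : G // g * z * g⁻¹ = g0 * z * g0⁻¹} ≃ centralizer ({z} : Set G) where
  toFun g := ⟨g0⁻¹ * g, by
    rw [mem_centralizer_singleton_iff]
    have h := g.2
    calc g0⁻¹ * g * z = g0⁻¹ * (g * z * (g : G)⁻¹) * g := by group
      _ = g0⁻¹ * (g0 * z * g0⁻¹) * g := by rw [h]
      _ = z * (g0⁻¹ * g) := by group⟩
  invFun c := ⟨g0 * c, by
    have h := mem_centralizer_singleton_iff.1 c.2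
    calc g0 * c * z * (g0 * (c : G))⁻¹ = g0 * (c * z) * (c : G)⁻¹ * g0⁻¹ := by group
      _ = g0 * (z * c) * (c : G)⁻¹ * g0⁻¹ := by rw [h]
      _ = g0 * z * g0⁻¹ := by group⟩
  left_inv g := Subtype.ext (by simp)
  right_inv c := Subtype.ext (by simp)

theorem pow_ne_one_of_mem {p : ℕ} {x : G} (hx : orderOf x = p) {j : ℕ} (hj : j ∈ Finset.Ico 1 p) : x ^ j ≠ 1 := by
  rw [Finset.mem_Ico] at hj
  intro h
  have := orderOf_le_of_pow_eq_one (by omega) h
  omega

theorem centralizer_pow_eq {p : ℕ} (hp : p.Prime) {x : G} (hx : orderOf x = p) {j : ℕ} (hj : j ∈ Finset.Ico 1 p) :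
    centralizer ({x ^ j} : Set G) = centralizer ({x} : Set G) := by
  rw [Finset.mem_Ico] at hj
  apply le_antisymm
  · intro g hg
    rw [mem_centralizer_singleton_iff] at hg ⊢
    have h1 : Nat.Coprime j p := Nat.Coprime.symm (Nat.coprime_of_lt_prime (by omega) hj.2 hp)
    obtain ⟨m, hm⟩ := Nat.exists_mul_mod_eq_one_of_coprime h1 hp.one_lt
    have h2 : (x ^ j) ^ m = x := by
      rw [← pow_mul]
      conv_rhs => rw [← pow_one x]
      exact pow_eq_pow_iff_modEq.2 (by rw [hx]; exact hm.2.trans (Nat.mod_eq_of_lt hp.one_lt).symm)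
    have h3 : Commute g (x ^ j) := hg
    have h4 := h3.pow_right m
    rw [h2] at h4
    exact h4
  · intro g hg
    rw [mem_centralizer_singleton_iff] at hg ⊢
    have h3 : Commute g x := hg
    exact h3.pow_right j

variable [Finite G]

open Classical in
/-- **The number of conjugate powers.** -/
theorem card_conj_pow [IsSimpleGroup G] (hG : ¬ IsMulCommutative G) {p : ℕ} (hp : p.Prime) {N c e : ℕ}
    (hN : Nat.card G = N) {x : G} (hx : orderOf x = p) (hc : Nat.card (centralizer ({x} : Set G)) = c)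
    (hN0 : N % p = 0) (hN1 : N % p ^ 2 ≠ 0) (he : N / c % p = e) :
    ∀ j ∈ Finset.Ico 1 p, ((Finset.Ico 1 p).filter fun i => IsConj (x ^ i) (x ^ j)).card = e := by
  have : Fact p.Prime := ⟨hp⟩
  have := Fintype.ofFinite G
  have h1 : p ∣ Nat.card G := by rw [hN]; exact Nat.dvd_of_mod_eq_zero hN0
  have h2 : ¬ p ^ 2 ∣ Nat.card G := by
    rw [hN]; exact fun h => hN1 (Nat.mod_eq_zero_of_dvd h)
  have hpg : IsPGroup p (zpowers x) := IsPGroup.of_card (n := 1) (by rw [Nat.card_zpowers, hx, pow_one])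
  obtain ⟨P, hxP⟩ := hpg.exists_le_sylow
  have hP : Nat.card P = p := card_of_not_sq_dvd h1 h2 P
  have hPx : (P : Subgroup G) = zpowers x := by
    have h3 : Nat.card (zpowers x) = Nat.card (P : Subgroup G) := by rw [Nat.card_zpowers, hx]; exact hP.symm
    exact (Subgroup.eq_of_le_of_card_ge hxP h3.ge).symm
  obtain ⟨e', K, hL⟩ := exists_local hG h1 h2 P
  have hCx : centralizer ((P : Subgroup G) : Set G) = centralizer ({x} : Set G) := by
    rw [hPx, SmallSimple.SelfCentPrime.centralizer_zpowers]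
  have hcK : c = p * Nat.card K := by
    rw [← hc, ← hCx]; exact hL.card_centralizer
  have hc0 : 0 < c := by rw [← hc]; exact Nat.card_pos
  have hNc : Nat.card (normalizer ((P : Subgroup G) : Set G)) = e' * c := by
    rw [hcK]; have := hL.card_normalizer; rw [show (P : Set G) = ((P : Subgroup G) : Set G) from rfl] at this
    rw [this]; ring
  have hee : e' = e := by
    have hlt : e' < p := by
      have := Nat.le_of_dvd (by have := hp.two_le; omega) hL.dvd_pred
      have := hp.two_le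
      omega
    have hce := hL.card_eq
    rw [hN] at hce
    have h4 : N / c = Nat.card (Sylow p G) * e' := by
      rw [hce, hcK]
      rw [show Nat.card (Sylow p G) * (p * e' * Nat.card K) = Nat.card (Sylow p G) * e' * (p * Nat.card K) by ring]
      exact Nat.mul_div_cancel _ (by rw [← hcK]; exact hc0)
    have h6 : Nat.card (Sylow p G) ≡ 1 [MOD p] := card_sylow_modEq_one p G
    have h7 : N / c % p = e' := by
      rw [h4]
      have h8 := h6.mul_right e'
      rw [one_mul] at h8
      rw [show Nat.card (Sylow p G) * e' % p = e' % p from h8, Nat.mod_eq_of_lt hlt]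
    rw [← he, h7]
  subst hee
  intro j hj
  set z := x ^ j with hz
  have hz1 : z ≠ 1 := pow_ne_one_of_mem hx hj
  have hzP : z ∈ (P : Subgroup G) := by rw [hPx]; exact pow_mem (mem_zpowers x) j
  have hcz : Nat.card (centralizer ({z} : Set G)) = c := by rw [hz, centralizer_pow_eq hp hx hj, hc]
  -- elements of the normalizer
  have hnorm : ∀ g : G, g * z * g⁻¹ ∈ (P : Subgroup G) ↔ g ∈ normalizer ((P : Subgroup G) : Set G) := by
    intro g
    constructor
    · intro h
      have h3 : (P : Subgroup G) = zpowers z := (zpowers_eq (P := (P : Subgroup G)) hP hzP hz1).symm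
      have h5 : g * z * g⁻¹ ≠ 1 := by
        intro h6
        apply hz1
        have : z = g⁻¹ * (g * z * g⁻¹) * g := by group
        rw [this, h6]; group
      have h4 : (P : Subgroup G) = zpowers (g * z * g⁻¹) := (zpowers_eq (P := (P : Subgroup G)) hP h h5).symm
      rw [mem_normalizer_iff]
      intro w
      have hfwd : ∀ w ∈ (P : Subgroup G), g * w * g⁻¹ ∈ (P : Subgroup G) := by
        intro w hw
        rw [h3] at hw
        obtain ⟨k, rfl⟩ := mem_zpowers_iff.1 hw
        have : g * z ^ k * g⁻¹ = (g * z * g⁻¹) ^ k := by rw [conj_zpow]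
        rw [this]
        exact zpow_mem h k
      refine ⟨hfwd w, fun hw => ?_⟩
      rw [h4] at hw
      obtain ⟨k, hk⟩ := mem_zpowers_iff.1 hw
      have h6 : w = z ^ k := by
        have h7 : g * w * g⁻¹ = g * z ^ k * g⁻¹ := by rw [← hk, conj_zpow]
        exact mul_left_cancel (mul_right_cancel h7)
      rw [h6]
      exact zpow_mem hzP k
    · intro h
      exact (mem_normalizer_iff.1 h z).1 hzP
  have hcount : (Finset.univ.filter fun g : G => g * z * g⁻¹ ∈ (P : Subgroup G)).card = e' * c := by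
    rw [← hNc, Nat.card_eq_fintype_card, Fintype.card_subtype]
    congr 1
    ext g
    simp only [Finset.mem_filter, Finset.mem_univ, true_and]
    exact hnorm g
  have hmaps : ∀ g ∈ (Finset.univ.filter fun g : G => g * z * g⁻¹ ∈ (P : Subgroup G)),
      ∃ i ∈ (Finset.Ico 1 p).filter (fun i => IsConj (x ^ i) z), x ^ i = g * z * g⁻¹ := by
    intro g hg
    rw [Finset.mem_filter] at hg
    have hg := hg.2
    rw [hPx] at hg
    have h3 := (mem_zpowers_iff_mem_range_orderOf (x := x) (y := g * z * g⁻¹)).1 hg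
    rw [Finset.mem_image] at h3
    obtain ⟨i, hi, hi'⟩ := h3
    rw [Finset.mem_range, hx] at hi
    refine ⟨i, ?_, hi'⟩
    rw [Finset.mem_filter, Finset.mem_Ico]
    refine ⟨⟨?_, hi⟩, ?_⟩
    · by_contra h0
      have h4 : i = 0 := by omega
      rw [h4, pow_zero] at hi'
      apply hz1
      have : z = g⁻¹ * (g * z * g⁻¹) * g := by group
      rw [this, ← hi']; group
    · exact (isConj_iff.2 ⟨g, hi'.symm⟩).symm
  have hfib : ∀ i ∈ (Finset.Ico 1 p).filter (fun i => IsConj (x ^ i) z),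
      (Finset.univ.filter fun g : G => g * z * g⁻¹ = x ^ i).card = c := by
    intro i hi
    rw [Finset.mem_filter] at hi
    obtain ⟨g0, hg0⟩ := isConj_iff.1 hi.2.symm
    rw [← hg0, ← Fintype.card_subtype, ← Nat.card_eq_fintype_card, Nat.card_congr (fibEquiv g0 z), hcz]
  have hsum : (Finset.univ.filter fun g : G => g * z * g⁻¹ ∈ (P : Subgroup G)).card =
      ∑ i ∈ (Finset.Ico 1 p).filter (fun i => IsConj (x ^ i) z),
        (Finset.univ.filter fun g : G => g * z * g⁻¹ = x ^ i).card := by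
    rw [← Finset.card_biUnion]
    · congr 1
      ext g
      rw [Finset.mem_biUnion]
      constructor
      · intro hg
        obtain ⟨i, hi, hi'⟩ := hmaps g hg
        exact ⟨i, hi, by rw [Finset.mem_filter]; exact ⟨Finset.mem_univ _, hi'.symm⟩⟩
      · rintro ⟨i, -, hi'⟩
        rw [Finset.mem_filter] at hi' ⊢
        refine ⟨Finset.mem_univ _, ?_⟩
        rw [hi'.2, hPx]
        exact pow_mem (mem_zpowers x) i
    · intro i hi k hk hik
      rw [Function.onFun, Finset.disjoint_left]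
      intro g hg hg'
      rw [Finset.mem_filter] at hg hg'
      rw [Finset.mem_coe, Finset.mem_filter, Finset.mem_Ico] at hi hk
      apply hik
      have h3 : x ^ i = x ^ k := hg.2.symm.trans hg'.2
      have h4 := pow_eq_pow_iff_modEq.1 h3
      rw [hx] at h4
      have h5 : i % p = k % p := h4
      rwa [Nat.mod_eq_of_lt hi.1.2, Nat.mod_eq_of_lt hk.1.2] at h5
  rw [hcount, Finset.sum_congr rfl hfib, Finset.sum_const, smul_eq_mul] at hsum
  convert (Nat.eq_of_mul_eq_mul_right hc0 hsum).symm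

theorem card_cent_pow {p : ℕ} (hp : p.Prime) {c : ℕ} {x : G} (hx : orderOf x = p)
    (hc : Nat.card (centralizer ({x} : Set G)) = c) :
    ∀ j ∈ Finset.Ico 1 p, Nat.card (centralizer ({x ^ j} : Set G)) = c := by
  intro j hj
  rw [centralizer_pow_eq hp hx hj, hc]

theorem sum_root {p : ℕ} (hp : p.Prime) {a : ℂ} (ha : a ^ p = 1) (ha1 : a ≠ 1) :
    ∑ i ∈ Finset.Ico 1 p, a ^ i = -1 := by
  have h1 := geom_sum_eq ha1 p
  rw [ha, sub_self, zero_div, Finset.range_eq_Ico, Finset.sum_eq_sum_Ico_succ_bot hp.pos, pow_zero] at h1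
  linear_combination h1

/-- **The means of a self-centralizing exact prime are at most `1`.** -/
theorem norm_av_le [IsSimpleGroup G] (hG : ¬ IsMulCommutative G) {p : ℕ} (hp : p.Prime) {N : ℕ}
    (hN : Nat.card G = N) {x : G} (hx : orderOf x = p) (hc : Nat.card (centralizer ({x} : Set G)) = p)
    (e t S : ℕ) (hnum : chkSC N p e t S = true) (χ : IrrCharacter G) : ‖av p x χ‖ ≤ 1 := by
  classical
  have : Fact p.Prime := ⟨hp⟩
  obtain ⟨hp2, ht, -, he0, P, hP, hC, hrel, hconj⟩ := setup hG hp hN hx hc e t S hnum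
  obtain ⟨NE, X, ε, d, T, hdis, hNE, hX, hε, hd, hone, hv, hvX, hXd, hreg, hz⟩ :=
    SmallSimple.TheoremBCor.theoremB_selfCent p hp2 P hP hC e t hrel ht
  obtain ⟨z, hzP, hz1, hxz⟩ := hconj x hx
  have hzo : orderOf z = p := by
    have h3 := SmallSimple.SelfCentPrime.centralizer_zpowers z
    exact orderOf_eq_prime (by
      have h4 : z ^ Nat.card P = 1 := by
        have h5 : (⟨z, hzP⟩ : P) ^ Nat.card P = 1 := pow_card_eq_one'
        have h6 := congrArg (Subtype.val) h5
        simpa using h6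
      rwa [hP] at h4) hz1
  have hpr : ((p : ℂ) - 1) ≠ 0 := by
    rw [sub_ne_zero]; exact_mod_cast hp.one_lt.ne'
  have hval : ∀ i, (χ : G → ℂ) (x ^ i) = (χ : G → ℂ) (z ^ i) := by
    intro i
    obtain ⟨g, rfl⟩ := isConj_iff.1 hxz
    rw [conj_pow]
    exact (Core.isIrr_isClassFunction χ.2 (x ^ i) g).symm
  have hzi : ∀ i ∈ Finset.Ico 1 p, z ^ i ∈ (P : Subgroup G) ∧ z ^ i ≠ 1 := fun i hi =>
    ⟨pow_mem hzP i, pow_ne_one_of_mem hzo hi⟩
  unfold av
  simp only [hval]
  by_cases h1 : χ ∈ NE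
  · rw [Finset.sum_congr rfl fun i hi => hv χ h1 (z ^ i) (hzi i hi).1 (hzi i hi).2, Finset.sum_const, Nat.card_Ico,
      nsmul_eq_mul, Nat.cast_sub hp.one_le, Nat.cast_one, mul_div_assoc, mul_comm, div_mul_cancel₀ _ hpr]
    rcases hε χ h1 with h | h <;> rw [h] <;> simp
  by_cases h2 : χ ∈ X
  · obtain ⟨hSc, hS1, hSv⟩ := hvX χ h2
    have h3 : ∀ i ∈ Finset.Ico 1 p, (χ : G → ℂ) (z ^ i) = d * ∑ l ∈ T χ, ((l ⟨z, hzP⟩ : ℂˣ) : ℂ) ^ i := by
      intro i hi
      have h4 := hSv ⟨z ^ i, (hzi i hi).1⟩ (fun h => (hzi i hi).2 (congrArg Subtype.val h))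
      rw [h4]
      congr 1
      refine Finset.sum_congr rfl fun l _ => ?_
      have h5 : (⟨z ^ i, (hzi i hi).1⟩ : P) = ⟨z, hzP⟩ ^ i := Subtype.ext (by simp)
      rw [h5, map_pow]
      push_cast
      rfl
    have h6 : ∀ l ∈ T χ, ∑ i ∈ Finset.Ico 1 p, ((l ⟨z, hzP⟩ : ℂˣ) : ℂ) ^ i = -1 := by
      intro l hl
      apply sum_root hp
      · have h7 : (⟨z, hzP⟩ : P) ^ p = 1 := Subtype.ext (show z ^ p = 1 by rw [← hzo]; exact pow_orderOf_eq_one z)
        have h8 : (l ⟨z, hzP⟩) ^ p = 1 := by rw [← map_pow, h7, map_one]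
        rw [← Units.val_pow_eq_pow_val, h8, Units.val_one]
      · intro h7
        apply hS1
        have h8 : l = 1 := by
          ext w
          have hw : (w : G) ∈ zpowers z := by
            rw [zpowers_eq (P := (P : Subgroup G)) hP hzP hz1]; exact w.2
          obtain ⟨k, hk⟩ := mem_zpowers_iff.1 hw
          have h9 : w = ⟨z, hzP⟩ ^ k := Subtype.ext (by simp [hk])
          have h10 : l ⟨z, hzP⟩ = 1 := Units.ext h7
          rw [h9, map_zpow, h10, one_zpow]
          rfl
        rwa [h8] at hl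
    have h7 : ∑ i ∈ Finset.Ico 1 p, (χ : G → ℂ) (z ^ i) = -(d * e) := by
      rw [Finset.sum_congr rfl h3, ← Finset.mul_sum, Finset.sum_comm, Finset.sum_congr rfl h6, Finset.sum_const, hSc]
      simp
    rw [h7, norm_div, norm_neg, norm_mul]
    have h8 : ‖(d : ℂ)‖ = 1 := by rcases hd with h | h <;> rw [h] <;> simp
    have h9 : ‖(e : ℂ)‖ = e := Complex.norm_natCast e
    have h10 : ‖((p : ℂ) - 1)‖ = (p : ℝ) - 1 := by
      rw [show ((p : ℂ) - 1) = (((p : ℝ) - 1 : ℝ) : ℂ) by push_cast; ring, Complex.norm_real, Real.norm_of_nonneg]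
      have : (1 : ℝ) ≤ p := by exact_mod_cast hp.one_le
      linarith
    rw [h8, h9, h10, one_mul]
    have h11 : (1 : ℝ) < p := by exact_mod_cast hp.one_lt
    rw [div_le_one (by linarith)]
    have h12 : e ≤ p - 1 := Nat.le_of_dvd (by have := hp.two_le; omega) ⟨t, ht.symm⟩
    have h13 : (e : ℝ) ≤ ((p - 1 : ℕ) : ℝ) := by exact_mod_cast h12
    rwa [Nat.cast_sub hp.one_le, Nat.cast_one] at h13
  · have h3 : ∀ i ∈ Finset.Ico 1 p, (χ : G → ℂ) (z ^ i) = 0 := fun i hi =>
      (hz χ h1 h2).1 _ (hzi i hi).1 (hzi i hi).2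
    rw [Finset.sum_congr rfl h3]
    simp

end Cfsg.Agent.H885.FT
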