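import Cfsg.Agent.H980.RB.Trace
import Cfsg.Agent.Characters.Core

/-!
# The degree of a representation of an extraspecial group (helper885)

`finrank_ge` : `Q` extraspecial with centre `⟨z⟩` of order `3`, `|Q| = 3 n²`, `ρ z ≠ 1`: the degree of `ρ` is at least `n`.
-/

set_option autoImplicit false

namespace Cfsg.Agent.H885.FT

open Cfsg Cfsg.Agent Cfsg.Agent.Characters Cfsg.Agent.H980.RB Cfsg.Agent.H323.Pw Module

variable {H : Type*} [Group H] [Finite H] {V : Type*} [AddCommGroup V] [Module ℂ V] [FiniteDimensional ℂ V]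

theorem finrank_ge (ρ : Representation ℂ H V) {Q : Subgroup H} {z : H} (h : XS 3 Q z) {n : ℕ}
    (hQ : Nat.card Q = 3 * n ^ 2) (hz : ρ z ≠ 1) : n ≤ finrank ℂ V := by
  classical
  have hz3 := xs_pow h
  -- a nontrivial eigenvalue
  obtain ⟨ζ, hζ, hW⟩ : ∃ ζ : ℂ, IsPrimitiveRoot ζ 3 ∧ eigM ρ z ζ ≠ ⊥ := by
    have hω : IsPrimitiveRoot (Complex.exp (2 * Real.pi * Complex.I / (3 : ℕ))) 3 :=
      Complex.isPrimitiveRoot_exp 3 (by norm_num)
    set ω := Complex.exp (2 * Real.pi * Complex.I / (3 : ℕ))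
    have hω2 : IsPrimitiveRoot (ω ^ 2) 3 := hω.pow_of_coprime 2 (by norm_num)
    by_contra hne
    push Not at hne
    apply hz
    have h0 : ∀ ζ : ℂ, IsPrimitiveRoot ζ 3 → prj ρ z ζ = 0 := by
      intro ζ hζ
      ext v
      have h1 := prj_mem (ρ := ρ) hz3 hζ.pow_eq_one v
      rw [hne ζ hζ, Submodule.mem_bot] at h1
      rw [h1, LinearMap.zero_apply]
    have h1 := prj_sum ρ z hω
    rw [h0 ω hω, h0 _ hω2, add_zero, add_zero] at h1
    ext v
    have h2 := prj_mem (ρ := ρ) hz3 (one_pow 3) v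
    rw [h1, mem_eigM, one_smul, Module.End.one_apply] at h2
    rw [h2, Module.End.one_apply]
  set W := eigM ρ z ζ with hWd
  set d := finrank ℂ W with hd
  have hd0 : d ≠ 0 := by
    intro h0
    exact hW (Submodule.finrank_eq_zero.1 h0)
  let σ : Representation ℂ H W := resRep ρ W (eigM_inv h.central ζ)
  let τ : Representation ℂ Q W := σ.comp Q.subtype
  have := Fintype.ofFinite Q
  have hzero : ∀ q : Q, (q : H) ∉ Subgroup.zpowers z → τ.character q = 0 := by
    intro q hq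
    obtain ⟨q', -, h1, h2⟩ := xs_nd h q q.2 hq
    obtain ⟨k, hk⟩ := exists_pow_of_mem hz3 h1
    refine weil_zero σ (g := (q : H)) (x := q') (c := ζ ^ k) ?_ ?_
    · intro h3
      obtain ⟨m, hm⟩ := hζ.dvd_of_pow_eq_one k h3
      apply h2
      rw [hk, hm, pow_mul, hz3, one_pow]
    · rw [hk]
      exact res_pow h.central ζ k
  have hsc : ∀ q : Q, ‖τ.character q‖ ^ 2 ≤ if (q : H) ∈ Subgroup.zpowers z then (d : ℝ) ^ 2 else 0 := by
    intro q
    split_ifs with hq
    · have h1 := norm_trace_le τ q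
      exact pow_le_pow_left₀ (norm_nonneg _) h1 2
    · rw [hzero q hq, norm_zero]
      norm_num
  have hcard : ((Finset.univ.filter fun q : Q => (q : H) ∈ Subgroup.zpowers z).card : ℝ) ≤ 3 := by
    have h1 : (Finset.univ.filter fun q : Q => (q : H) ∈ Subgroup.zpowers z).card ≤ 3 := by
      have h2 : Nat.card (Subgroup.zpowers z) = 3 := by rw [Nat.card_zpowers, h.ord]
      rw [← h2, ← Fintype.card_subtype, ← Nat.card_eq_fintype_card]
      refine Nat.card_le_card_of_injective (fun q => (⟨(q.1 : H), q.2⟩ : Subgroup.zpowers z)) ?_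
      intro a b hab
      have h3 : (a.1 : H) = b.1 := congrArg (fun x : Subgroup.zpowers z => (x : H)) hab
      exact Subtype.ext (Subtype.ext h3)
    exact_mod_cast h1
  obtain ⟨m, hm⟩ := Core.classInner_isNat (Core.isCharacter_of_rep τ) (Core.isCharacter_of_rep τ)
  have hreal : classInner τ.character τ.character =
      (((Nat.card Q : ℝ)⁻¹ * ∑ q : Q, ‖τ.character q‖ ^ 2 : ℝ) : ℂ) := by
    rw [Core.classInner_def]
    push_cast
    congr 1
    refine Finset.sum_congr rfl fun q _ => ?_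
    rw [Complex.mul_conj, Complex.normSq_eq_norm_sq]
    push_cast
    rfl
  rw [hreal] at hm
  have hm' : (Nat.card Q : ℝ)⁻¹ * ∑ q : Q, ‖τ.character q‖ ^ 2 = m := by exact_mod_cast hm
  have hQ0 : (0 : ℝ) < Nat.card Q := by exact_mod_cast Nat.card_pos
  have hsum : ∑ q : Q, ‖τ.character q‖ ^ 2 = m * Nat.card Q := by
    rw [← hm']
    field_simp
  have hle : ∑ q : Q, ‖τ.character q‖ ^ 2 ≤ 3 * (d : ℝ) ^ 2 := by
    refine (Finset.sum_le_sum fun q _ => hsc q).trans ?_
    rw [← Finset.sum_filter, Finset.sum_const, nsmul_eq_mul]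
    exact mul_le_mul_of_nonneg_right hcard (by positivity)
  have hm0 : m ≠ 0 := by
    rintro rfl
    rw [Nat.cast_zero, zero_mul] at hsum
    have h1 := (Finset.sum_eq_zero_iff_of_nonneg fun q _ => by positivity).1 hsum 1 (Finset.mem_univ _)
    have h2 : τ.character 1 = d := Representation.char_one τ
    rw [h2] at h1
    simp at h1
    exact hd0 h1
  have hm1 : (1 : ℝ) ≤ m := by exact_mod_cast Nat.one_le_iff_ne_zero.2 hm0
  have h1 : 3 * (n : ℝ) ^ 2 ≤ 3 * (d : ℝ) ^ 2 := by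
    have h2 : (Nat.card Q : ℝ) = 3 * (n : ℝ) ^ 2 := by rw [hQ]; push_cast; ring
    rw [hsum] at hle
    rw [← h2]
    nlinarith
  have h3 : n ≤ d := by
    have h4 : (n : ℝ) ^ 2 ≤ (d : ℝ) ^ 2 := by linarith
    have h5 : (n : ℝ) ≤ d := le_of_sq_le_sq h4 (Nat.cast_nonneg _)
    exact_mod_cast h5
  exact h3.trans (Submodule.finrank_le _)

end Cfsg.Agent.H885.FT
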