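import Cfsg.Agent.H885.FT.Asm
import Cfsg.Agent.H885.FT.Ext
import Cfsg.Agent.H981.TC.Cube

/-!
# The row `F₄(3)` of S2452 (products of three elements of order `73`; helper885)

* `deg_ge` : the nontrivial irreducible characters of `F₄(3)` have degree at least `3⁷`;
* `row3_of_RB` : `Row3 F₄(3)` from the ratio bound.
-/

set_option autoImplicit false

namespace Cfsg.Agent.H885.FT

open Cfsg Cfsg.Lie Cfsg.Agent.Characters Subgroup Cfsg.Agent.H65.Ore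
open Cfsg.Agent.H323.Pw
open CoxeterSystem Cfsg.Agent.Nodes.RGDChev Cfsg.Agent.KFacts.RgdChevCoord Cfsg.Agent.H537.Pw
open Cfsg.Agent.H700.F43 Cfsg.Agent.H267.SpFx Cfsg.Agent.H150.F43.Step Cfsg.Agent.H98.Pw Cfsg.Agent.H98.F43
open Cfsg.Agent.H750.F43 (CZ G3 zz xt xa eb)

universe u

theorem deg_ge (χ : IrrCharacter G3) (hχ : χ ≠ one1 G3) : 3 ^ 7 ≤ charDegree (χ : G3 → ℂ) := by
  have hs : IsSimpleGroup G3 := simpleF
  refine irr_of_rep (P := fun f => 3 ^ 7 ≤ charDegree f) (fun m ρ hρ hg => ?_) χ hχ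
  have h1 : ρ.character 1 = (m : ℂ) := by
    have h2 : ρ.character 1 = (Module.finrank ℂ (Fin m → ℂ) : ℂ) := Representation.char_one ρ
    rw [h2, Module.finrank_fin_fun]
  have h2 : charDegree ρ.character = m := Blocks.Knorr.charDegree_of_natCast h1
  show 3 ^ 7 ≤ charDegree ρ.character
  rw [h2]
  have hz : ρ (zP : G3) ≠ 1 := by
    intro h0
    have hk : (zP : G3) ∈ MonoidHom.ker (ρ : G3 →* ((Fin m → ℂ) →ₗ[ℂ] (Fin m → ℂ))) := h0
    rcases hs.eq_bot_or_eq_top_of_normal (MonoidHom.ker (ρ : G3 →* ((Fin m → ℂ) →ₗ[ℂ] (Fin m → ℂ)))) inferInstance with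
      h3 | h3
    · rw [h3, Subgroup.mem_bot] at hk
      have h4 := (xs_ff dat).ord
      have h5 : zP = 1 := Subtype.ext hk
      rw [h5, orderOf_one] at h4
      omega
    · obtain ⟨g, hg⟩ := hg
      apply hg
      have h4 : g ∈ MonoidHom.ker (ρ : G3 →* ((Fin m → ℂ) →ₗ[ℂ] (Fin m → ℂ))) := by rw [h3]; trivial
      exact h4
  have h3 := finrank_ge (H := ↥PP) ((ρ : G3 →* ((Fin m → ℂ) →ₗ[ℂ] (Fin m → ℂ))).comp PP.subtype) (xs_ff dat) (n := 3 ^ 7)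
    (by rw [card_ker dat]; norm_num) hz
  rwa [Module.finrank_fin_fun] at h3

theorem cube {x : Gf} (hc : Nat.card (centralizer ({x} : Set Gf)) = 73) (g : Gf) : H981.TC.Cube.Cu x g :=
  H981.TC.Cube.cu_of_deg (c := 72) (d := 3 ^ 7) (by rw [hc]) (by norm_num)
    (fun χ h1 _ => deg_ge χ fun h2 => h1 (by rw [h2]; rfl)) g

/-- **The assembly**, `Row3` form. -/
theorem row3_of_red {RT : Gf → Prop}
    (hred : ∀ P : Gf → Prop, (∀ a b : Gf, IsConj a b → P b → P a) →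
      (∀ g : Gf, 3 ∣ orderOf g → Nat.card (centralizer ({g} : Set Gf)) ≤ 4976985092 → P g) →
      (∀ g : Gf, 3 ∣ orderOf g → RT g → P g) → ∀ g : Gf, 3 ∣ orderOf g → P g)
    (hRT : ∀ g : Gf, 3 ∣ orderOf g → RT g → ∀ χ : IrrCharacter Gf, χ ≠ one1 Gf →
      11 * ‖(χ : Gf → ℂ) g‖ ≤ ‖(χ : Gf → ℂ) 1‖) : H210.TC.Row3 Gf := by
  obtain ⟨x, y, St, h⟩ := exists_pair
  refine ⟨x, y, ?_, h.cop.1, ?_, h.cop.2, fun g hg => ?_, fun g => cube h.cx g⟩
  · rw [h.pair.hx]; norm_num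
  · rw [h.pair.hy]; norm_num
  change Prd x y g
  by_cases h3 : 3 ∣ orderOf g
  · refine hred (fun g => Prd x y g) (fun a b hab hb => hb.of_isConj hab.symm) (fun g h3 hc => h.small h3 hc)
      (fun g h3 hr => ?_) g h3
    refine h.ratio h3 (ρ := 1 / 11) (by norm_num) (by norm_num) fun χ hχ _ => ?_
    have h1 := hRT g h3 hr χ hχ
    linarith
  · exact h.semi hg h3

theorem row3_card {p : ℕ} [Fact p.Prime] (h : H210.TC.Row3 ↥(chevF4.group (ZMod p))) {K : Type u} [Field K]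
    (hK : Nat.card K = p) : H210.TC.Row3 ↥(chevF4.group K) := by
  have hp : p.Prime := Fact.out
  have : Finite K := Nat.finite_of_card_ne_zero (by rw [hK]; exact hp.ne_zero)
  let _ : Fintype K := Fintype.ofFinite K
  have hc : Fintype.card K = Fintype.card (ZMod p) := by
    rw [ZMod.card, ← Nat.card_eq_fintype_card, hK]
  let e := Cfsg.Agent.H64.ChevField.groupCongr (FiniteField.ringEquivOfCardEq hc) chevF4
  exact H210.TC.Row3.of_equiv e h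

/-- **S2452 and S2464, row `F₄(3)`**, from the ratio bound. -/
theorem row3_of_RB
    (RB : ∀ χ : IrrCharacter G3, χ ≠ one1 G3 → ∀ g : ↥PP, ff g ≠ 1 →
      ((∃ y ∈ ff.ker, y * g * y⁻¹ = g * zP) ∨ Nat.card (FixX ff.ker zP g) ≤ 3 ^ 9) →
      11 * ‖(χ : G3 → ℂ) (g : G3)‖ ≤ ‖(χ : G3 → ℂ) 1‖)
    (RBQ : ∀ χ : IrrCharacter G3, χ ≠ one1 G3 → ∀ q ∈ (QQ : Subgroup G3), q ∉ zpowers (zz : G3) →
      11 * ‖(χ : G3 → ℂ) q‖ ≤ ‖(χ : G3 → ℂ) 1‖) {K : Type u} [Field K] (hK : Nat.card K = 3) :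
    H210.TC.Row3 ↥(chevF4.group K) := by
  refine row3_card (p := 3) (row3_of_red (RT := fun g => (∃ u : ↥PP, (u : G3) = g ∧ ff u ≠ 1 ∧
      ((∃ y ∈ ff.ker, y * u * y⁻¹ = u * zP) ∨ Nat.card (FixX ff.ker zP u) ≤ 3 ^ 9)) ∨
      ∃ a d : F3, a ≠ 0 ∧ g = xa a * xt d) ?_ ?_) hK
  · intro P CJ SMALL RATIO g h3
    refine H290.Six.F43.reduce (P := fun g => 3 ∣ orderOf g → P g) ?_ ?_ ?_ ?_ g h3 h3
    · intro a b hab hb ha
      obtain ⟨c, rfl⟩ := isConj_iff.1 hab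
      refine CJ a _ hab (hb ?_)
      rwa [H290.Six.F43.orderOf_conj]
    · exact fun g h3 hc _ => SMALL g h3 hc
    · exact fun g h3 hg hor _ => RATIO g h3 (Or.inl ⟨g, rfl, hg, hor⟩)
    · exact fun a d ha h3 => RATIO _ h3 (Or.inr ⟨a, d, ha, rfl⟩)
  · rintro g - (⟨u, rfl, hu, hor⟩ | ⟨a, d, ha, rfl⟩) χ hχ
    · exact RB χ hχ u hu hor
    · obtain ⟨x, q, hq, hq', he⟩ := H38.RB.u4 a d ha
      have h1 := RBQ χ hχ q hq hq'
      rw [← he, Core.isIrr_isClassFunction χ.2] at h1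
      exact h1

end Cfsg.Agent.H885.FT
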