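import Cfsg.Agent.H885.FT.Cnt

/-!
# The pair engine (S2464, F4(3), helper885)

`x` of order `p`, self-centralizing, `y` of order `r`, `|C(y)| = c`, `p`, `r` exact, `St` an irreducible character which vanishes at
`g`, `g` of order prime to `p`, `r`.

* `one_le_sum` : if `g` is not in `x^G y^G` then `1 ≤ ∑_{χ ≠ 1, St} ‖A_χ‖ ‖B_χ‖ ‖χ(g)‖ / χ(1)`;
* `Pair.prd` : `‖χ(g)‖ ≤ ρ χ(1)` for all `χ ≠ 1, St` and `ρ² a b < 1`, `a = e p / (p - 1) - 2`, `b = e' c / (r - 1) - 2`;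
* `Pair.prd_cent` : `d ≤ χ(1)` for all `χ ≠ 1, St` and `b |C(g)| < d²`;
* `Pair.of` : the constructor.
-/

set_option autoImplicit false

namespace Cfsg.Agent.H885.FT

open Cfsg Cfsg.Agent.Characters Subgroup Cfsg.Agent.H65.Ore
open scoped ComplexConjugate

universe u

variable {G : Type u} [Group G] [Finite G]

theorem av_one {p : ℕ} (hp : p.Prime) (x : G) : av p x (one1 G) = 1 := by
  have hpr : ((p : ℂ) - 1) ≠ 0 := by
    rw [sub_ne_zero]; exact_mod_cast hp.one_lt.ne'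
  unfold av
  simp only [one1_apply]
  rw [Finset.sum_const, Nat.card_Ico, nsmul_eq_mul, Nat.cast_sub hp.one_le, Nat.cast_one, mul_one, div_self hpr]

/-- The data of the pair. -/
structure Pair (x y : G) (p r : ℕ) (St : IrrCharacter G) (a b : ℝ) : Prop where
  hp : p.Prime
  hr : r.Prime
  hpr : p ≠ r
  hx : orderOf x = p
  hy : orderOf y = r
  fac : ∃ n, ¬ p ∣ n ∧ Nat.card G = p * n
  fac' : ∃ n, ¬ r ∣ n ∧ Nat.card G = r * n
  ne_one : St ≠ one1 G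
  st_x : ‖av p x St‖ = 1
  st_y : ‖av r y St‖ = 1
  sum_x : ∀ [Fintype (IrrCharacter G)], ∑ χ : IrrCharacter G, ‖av p x χ‖ ^ 2 = a + 2
  sum_y : ∀ [Fintype (IrrCharacter G)], ∑ χ : IrrCharacter G, ‖av r y χ‖ ^ 2 = b + 2
  le_one : ∀ χ : IrrCharacter G, ‖av p x χ‖ ≤ 1

section

variable {x y : G} {p r : ℕ} {St : IrrCharacter G} {a b : ℝ}

open Classical in
/-- the nontrivial characters except `St` -/
noncomputable def mid (G : Type u) [Group G] [Fintype (IrrCharacter G)] (St : IrrCharacter G) : Finset (IrrCharacter G) :=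
  (Finset.univ.erase (one1 G)).erase St

omit [Finite G] in
theorem mem_mid [Fintype (IrrCharacter G)] {χ : IrrCharacter G} : χ ∈ mid G St ↔ χ ≠ St ∧ χ ≠ one1 G := by
  classical
  unfold mid
  rw [Finset.mem_erase, Finset.mem_erase]
  simp

omit [Finite G] in
theorem sum_mid [Fintype (IrrCharacter G)] {A : Type*} [AddCommMonoid A] (hSt : St ≠ one1 G) (f : IrrCharacter G → A) :
    ∑ χ : IrrCharacter G, f χ = f (one1 G) + (f St + ∑ χ ∈ mid G St, f χ) := by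
  classical
  unfold mid
  rw [Finset.add_sum_erase _ f (by rw [Finset.mem_erase]; exact ⟨hSt, Finset.mem_univ _⟩),
    Finset.add_sum_erase _ f (Finset.mem_univ _)]

theorem Pair.one_le_sum (h : Pair x y p r St a b) [Fintype (IrrCharacter G)] {g : G} (hg : ¬ p ∣ orderOf g)
    (hg' : ¬ r ∣ orderOf g) (hSt : (St : G → ℂ) g = 0) (hno : ¬ Prd x y g) :
    1 ≤ ∑ χ ∈ mid G St, ‖av p x χ‖ * ‖av r y χ‖ * (‖(χ : G → ℂ) g‖ / ‖(χ : G → ℂ) 1‖) := by
  obtain ⟨n, hn, hG⟩ := h.fac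
  obtain ⟨n', hn', hG'⟩ := h.fac'
  have h0 : SS x y g = 0 := by
    by_contra h1
    exact hno (prd_of_ne_zero h1)
  rw [SS_avg h.hp hn hG h.hr hn' hG' h.hx h.hy h.hpr hg hg', sum_mid h.ne_one, av_one h.hp, av_one h.hr, hSt] at h0
  simp only [one1_apply, map_one, map_zero, zero_div, mul_zero, zero_add, mul_one, div_one] at h0
  have h1 : ∑ χ ∈ mid G St, av p x χ * av r y χ * (conj ((χ : G → ℂ) g) / (χ : G → ℂ) 1) = -1 := by
    linear_combination h0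
  have h2 := norm_sum_le (mid G St) (fun χ => av p x χ * av r y χ * (conj ((χ : G → ℂ) g) / (χ : G → ℂ) 1))
  rw [h1, norm_neg, norm_one] at h2
  refine h2.trans (le_of_eq (Finset.sum_congr rfl fun χ _ => ?_))
  rw [norm_mul, norm_mul, norm_div, Complex.norm_conj]

theorem Pair.mid_x (h : Pair x y p r St a b) [Fintype (IrrCharacter G)] :
    ∑ χ ∈ mid G St, ‖av p x χ‖ ^ 2 = a := by
  have h1 := h.sum_x
  rw [sum_mid h.ne_one, av_one h.hp, h.st_x, norm_one] at h1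
  linarith

theorem Pair.mid_y (h : Pair x y p r St a b) [Fintype (IrrCharacter G)] :
    ∑ χ ∈ mid G St, ‖av r y χ‖ ^ 2 = b := by
  have h1 := h.sum_y
  rw [sum_mid h.ne_one, av_one h.hr, h.st_y, norm_one] at h1
  linarith

omit [Finite G] in
theorem norm_one_pos (χ : IrrCharacter G) : 0 < ‖(χ : G → ℂ) 1‖ :=
  norm_pos_iff.2 (Core.isIrr_apply_one_ne_zero χ.2)

/-- **The ratio form.** -/
theorem Pair.prd (h : Pair x y p r St a b) {g : G} (hg : ¬ p ∣ orderOf g) (hg' : ¬ r ∣ orderOf g)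
    (hSt : (St : G → ℂ) g = 0) {ρ : ℝ} (hρ : 0 ≤ ρ) (hab : ρ ^ 2 * (a * b) < 1)
    (hrat : ∀ χ : IrrCharacter G, χ ≠ one1 G → χ ≠ St → ‖(χ : G → ℂ) g‖ ≤ ρ * ‖(χ : G → ℂ) 1‖) : Prd x y g := by
  have := Core.finite_irr (G := G)
  have := Fintype.ofFinite (IrrCharacter G)
  by_contra hno
  have h1 := h.one_le_sum hg hg' hSt hno
  have h2 : ∑ χ ∈ mid G St, ‖av p x χ‖ * ‖av r y χ‖ * (‖(χ : G → ℂ) g‖ / ‖(χ : G → ℂ) 1‖) ≤
      ρ * ∑ χ ∈ mid G St, ‖av p x χ‖ * ‖av r y χ‖ := by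
    rw [Finset.mul_sum]
    refine Finset.sum_le_sum fun χ hχ => ?_
    rw [mem_mid] at hχ
    have h3 : ‖(χ : G → ℂ) g‖ / ‖(χ : G → ℂ) 1‖ ≤ ρ := by
      rw [div_le_iff₀ (norm_one_pos χ)]
      exact hrat χ hχ.2 hχ.1
    calc ‖av p x χ‖ * ‖av r y χ‖ * (‖(χ : G → ℂ) g‖ / ‖(χ : G → ℂ) 1‖) ≤ ‖av p x χ‖ * ‖av r y χ‖ * ρ :=
          mul_le_mul_of_nonneg_left h3 (by positivity)
      _ = ρ * (‖av p x χ‖ * ‖av r y χ‖) := by ring
  have h3 := Finset.sum_mul_sq_le_sq_mul_sq (mid G St) (fun χ => ‖av p x χ‖) (fun χ => ‖av r y χ‖)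
  rw [h.mid_x, h.mid_y] at h3
  set s := ∑ χ ∈ mid G St, ‖av p x χ‖ * ‖av r y χ‖ with hs
  have h4 : 1 ≤ ρ * s := h1.trans h2
  have h5 : 1 ≤ (ρ * s) ^ 2 := by nlinarith
  have h6 : (ρ * s) ^ 2 ≤ ρ ^ 2 * (a * b) := by
    rw [mul_pow]
    exact mul_le_mul_of_nonneg_left h3 (by positivity)
  linarith

/-- **The centralizer form.** -/
theorem Pair.prd_cent (h : Pair x y p r St a b) {g : G} (hg : ¬ p ∣ orderOf g) (hg' : ¬ r ∣ orderOf g)
    (hSt : (St : G → ℂ) g = 0) {d : ℝ} (hd : 0 < d) {K : ℝ}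
    (hK : (Nat.card (centralizer ({g} : Set G)) : ℝ) ≤ K) (hb : 0 ≤ b) (hab : b * K < d ^ 2)
    (hdeg : ∀ χ : IrrCharacter G, χ ≠ one1 G → χ ≠ St → d ≤ ‖(χ : G → ℂ) 1‖) : Prd x y g := by
  have := Core.finite_irr (G := G)
  have := Fintype.ofFinite (IrrCharacter G)
  by_contra hno
  have h1 := h.one_le_sum hg hg' hSt hno
  have h2 : ∑ χ ∈ mid G St, ‖av p x χ‖ * ‖av r y χ‖ * (‖(χ : G → ℂ) g‖ / ‖(χ : G → ℂ) 1‖) ≤
      d⁻¹ * ∑ χ ∈ mid G St, ‖av r y χ‖ * ‖(χ : G → ℂ) g‖ := by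
    rw [Finset.mul_sum]
    refine Finset.sum_le_sum fun χ hχ => ?_
    rw [mem_mid] at hχ
    have h3 : ‖(χ : G → ℂ) g‖ / ‖(χ : G → ℂ) 1‖ ≤ d⁻¹ * ‖(χ : G → ℂ) g‖ := by
      rw [div_eq_inv_mul]
      exact mul_le_mul_of_nonneg_right (inv_anti₀ hd (hdeg χ hχ.2 hχ.1)) (norm_nonneg _)
    calc ‖av p x χ‖ * ‖av r y χ‖ * (‖(χ : G → ℂ) g‖ / ‖(χ : G → ℂ) 1‖) ≤
          1 * ‖av r y χ‖ * (d⁻¹ * ‖(χ : G → ℂ) g‖) := by
          refine mul_le_mul (mul_le_mul_of_nonneg_right (h.le_one χ) (norm_nonneg _)) h3 (by positivity) (by positivity)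
      _ = d⁻¹ * (‖av r y χ‖ * ‖(χ : G → ℂ) g‖) := by ring
  have h3 := Finset.sum_mul_sq_le_sq_mul_sq (mid G St) (fun χ => ‖av r y χ‖) (fun χ : IrrCharacter G => ‖(χ : G → ℂ) g‖)
  rw [h.mid_y] at h3
  have h7 : ∑ χ ∈ mid G St, ‖(χ : G → ℂ) g‖ ^ 2 ≤ K := by
    refine le_trans ?_ hK
    have h8 := H686.CharKit.sum_normSq g
    simp only [Complex.normSq_eq_norm_sq] at h8
    rw [← h8]
    exact Finset.sum_le_sum_of_subset_of_nonneg (Finset.subset_univ _) fun _ _ _ => by positivity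
  set s := ∑ χ ∈ mid G St, ‖av r y χ‖ * ‖(χ : G → ℂ) g‖ with hs
  have h4 : 1 ≤ d⁻¹ * s := h1.trans h2
  have h5 : d ≤ s := by
    rw [inv_mul_eq_div, one_le_div hd] at h4
    exact h4
  have h6 : s ^ 2 ≤ b * K := h3.trans (mul_le_mul_of_nonneg_left h7 hb)
  have h9 : d ^ 2 ≤ s ^ 2 := by nlinarith
  linarith

end

/-- the mean of a character with values `±1` whose degree is `1` modulo `p` -/
theorem norm_av_eq_one {p : ℕ} (hp : p.Prime) {x : G} {χ : IrrCharacter G} {ε : ℂ} (hε : ‖ε‖ = 1)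
    (h : ∀ i ∈ Finset.Ico 1 p, (χ : G → ℂ) (x ^ i) = ε) : ‖av p x χ‖ = 1 := by
  have hpr : ((p : ℂ) - 1) ≠ 0 := by
    rw [sub_ne_zero]; exact_mod_cast hp.one_lt.ne'
  unfold av
  rw [Finset.sum_congr rfl h, Finset.sum_const, Nat.card_Ico, nsmul_eq_mul, Nat.cast_sub hp.one_le, Nat.cast_one,
    mul_div_assoc, mul_comm, div_mul_cancel₀ _ hpr, hε]

/-- **The constructor.** -/
theorem Pair.of [IsSimpleGroup G] (hG : ¬ IsMulCommutative G) {N : ℕ} (hN : Nat.card G = N)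
    {p r : ℕ} (hp : p.Prime) (hr : r.Prime) (hpr : p ≠ r) {x y : G} (hx : orderOf x = p) (hy : orderOf y = r)
    (hcx : Nat.card (centralizer ({x} : Set G)) = p) {c : ℕ} (hcy : Nat.card (centralizer ({y} : Set G)) = c)
    {e e' t S : ℕ} (hnum : chkSC N p e t S = true) (h1 : N % p = 0) (h2 : N % p ^ 2 ≠ 0) (h3 : N / p % p = e)
    (h4 : N % r = 0) (h5 : N % r ^ 2 ≠ 0) (h6 : N / c % r = e') {St : IrrCharacter G} (hSt : St ≠ one1 G)
    (hsx : ‖av p x St‖ = 1) (hsy : ‖av r y St‖ = 1) :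
    Pair x y p r St ((e : ℝ) * p / ((p : ℝ) - 1) - 2) ((e' : ℝ) * c / ((r : ℝ) - 1) - 2) where
  hp := hp
  hr := hr
  hpr := hpr
  hx := hx
  hy := hy
  fac := by
    refine ⟨N / p, ?_, ?_⟩
    · intro h
      apply h2
      obtain ⟨k, hk⟩ := h
      have h7 : N = p ^ 2 * k := by
        rw [sq, mul_assoc, ← hk, Nat.mul_div_cancel' (Nat.dvd_of_mod_eq_zero h1)]
      rw [h7]; exact Nat.mul_mod_right _ _
    · rw [hN, Nat.mul_div_cancel' (Nat.dvd_of_mod_eq_zero h1)]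
  fac' := by
    refine ⟨N / r, ?_, ?_⟩
    · intro h
      apply h5
      obtain ⟨k, hk⟩ := h
      have h7 : N = r ^ 2 * k := by
        rw [sq, mul_assoc, ← hk, Nat.mul_div_cancel' (Nat.dvd_of_mod_eq_zero h4)]
      rw [h7]; exact Nat.mul_mod_right _ _
    · rw [hN, Nat.mul_div_cancel' (Nat.dvd_of_mod_eq_zero h4)]
  ne_one := hSt
  st_x := hsx
  st_y := hsy
  sum_x := by
    intro _
    rw [sum_av_sq hp (card_conj_pow hG hp hN hx hcx h1 h2 h3) (card_cent_pow hp hx hcx)]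
    ring
  sum_y := by
    intro _
    rw [sum_av_sq hr (card_conj_pow hG hr hN hy hcy h4 h5 h6) (card_cent_pow hr hy hcy)]
    ring
  le_one := norm_av_le hG hp hN hx hcx e t S hnum

end Cfsg.Agent.H885.FT
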