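import Cfsg.Agent.H885.FT.Wt
import Cfsg.Agent.H938.Pw.FThree
import Cfsg.Agent.H330.Gow
import Cfsg.Agent.S0165

/-!
# The pair `(73, 41)` in `F₄(3)` (S2464, helper885)

`G = F₄(3)`:
* `exists_pair` : `x` of order `73`, `y` of order `41`, the Steinberg character and the data of the engine;
* `small` : `|C(g)| ≤ 4976985092`, `g` of order prime to `73`, `41`: `g` is in `x^G y^G` (for the FIXED `x`, `y`);
* `semi` : `g ≠ 1` of order prime to `3`;
* `FP` : the package; `FP.ratio` : `‖χ(g)‖ ≤ ρ χ(1)` for all `χ ≠ 1, St` with `ρ * (51 / 5) < 1` (`ρ ≤ 0.098`).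
-/

set_option autoImplicit false

namespace Cfsg.Agent.H885.FT

open Cfsg Cfsg.Lie Cfsg.Agent.Characters Subgroup Cfsg.Agent.H65.Ore
open scoped ComplexConjugate

/-- `F₄(3)` -/
abbrev Gf : Type := ↥(chevF4.group (ZMod 3))

theorem SS_ne_zero {G : Type*} [Group G] [Finite G] [Fintype (IrrCharacter G)] {x y g : G} (h : Prd x y g) :
    SS x y g ≠ 0 := by
  intro h0
  have h1 := ClassMul.card_conj_mul_conj x y g
  unfold SS at h0
  rw [h0, mul_zero] at h1
  have h2 : Nat.card {p : G × G // p.1 * x * p.1⁻¹ * (p.2 * y * p.2⁻¹) = g} = 0 := by exact_mod_cast h1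
  obtain ⟨a, b, hab⟩ := h
  rw [Finite.card_eq_zero_iff] at h2
  exact h2.false ⟨(a, b), hab.symm⟩

/-- elements of exact prime order `p` are conjugate to powers of `x` -/
theorem exists_pow_conj {G : Type*} [Group G] [Finite G] {p : ℕ} (hp : p.Prime) {N : ℕ} (hN : Nat.card G = N)
    (h1 : N % p = 0) (h2 : N % p ^ 2 ≠ 0) {x x' : G} (hx : orderOf x = p) (hx' : orderOf x' = p) :
    ∃ i ∈ Finset.Ico 1 p, IsConj (x ^ i) x' := by
  classical
  have : Fact p.Prime := ⟨hp⟩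
  have h3 : p ∣ Nat.card G := by rw [hN]; exact Nat.dvd_of_mod_eq_zero h1
  have h4 : ¬ p ^ 2 ∣ Nat.card G := by rw [hN]; exact fun h => h2 (Nat.mod_eq_zero_of_dvd h)
  have key : ∀ w : G, orderOf w = p → ∃ P : Sylow p G, (P : Subgroup G) = zpowers w := by
    intro w hw
    have hpg : IsPGroup p (zpowers w) := IsPGroup.of_card (n := 1) (by rw [Nat.card_zpowers, hw, pow_one])
    obtain ⟨P, hP⟩ := hpg.exists_le_sylow
    have hPc : Nat.card P = p := SmallSimple.PrimeLocal.card_of_not_sq_dvd h3 h4 P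
    refine ⟨P, ?_⟩
    have h5 : Nat.card (zpowers w) = Nat.card (P : Subgroup G) := by rw [Nat.card_zpowers, hw]; exact hPc.symm
    exact (Subgroup.eq_of_le_of_card_ge hP h5.ge).symm
  obtain ⟨P, hP⟩ := key x hx
  obtain ⟨Q, hQ⟩ := key x' hx'
  obtain ⟨g, hg⟩ := MulAction.exists_smul_eq G Q P
  have h5 : g * x' * g⁻¹ ∈ zpowers x := by
    rw [← hP, ← hg]
    exact Subgroup.smul_mem_pointwise_smul x' (MulAut.conj g) (Q : Subgroup G) (by rw [hQ]; exact mem_zpowers x')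
  have h6 := (mem_zpowers_iff_mem_range_orderOf (x := x) (y := g * x' * g⁻¹)).1 h5
  rw [Finset.mem_image] at h6
  obtain ⟨i, hi, hi'⟩ := h6
  rw [Finset.mem_range, hx] at hi
  refine ⟨i, ?_, ?_⟩
  · rw [Finset.mem_Ico]
    refine ⟨?_, hi⟩
    by_contra h0
    have h7 : i = 0 := by omega
    rw [h7, pow_zero] at hi'
    have h8 : x' = 1 := by
      have : x' = g⁻¹ * (g * x' * g⁻¹) * g := by group
      rw [this, ← hi']; group
    rw [h8, orderOf_one] at hx'
    exact hp.one_lt.ne hx'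
  · exact (isConj_iff.2 ⟨g, hi'.symm⟩).symm

/-- if some elements of orders `p`, `r` have product `g` then the fixed classes do. -/
theorem prd_of_exists {G : Type*} [Group G] [Finite G] {p r : ℕ} (hp : p.Prime) (hr : r.Prime) (hpr : p ≠ r) {N : ℕ}
    (hN : Nat.card G = N) (h1 : N % p = 0) (h2 : N % p ^ 2 ≠ 0) (h3 : N % r = 0) (h4 : N % r ^ 2 ≠ 0) {x y x' y' : G}
    (hx : orderOf x = p) (hy : orderOf y = r) (hx' : orderOf x' = p) (hy' : orderOf y' = r)
    (hg : ¬ p ∣ orderOf (x' * y')) (hg' : ¬ r ∣ orderOf (x' * y')) : Prd x y (x' * y') := by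
  have := Core.finite_irr (G := G)
  have := Fintype.ofFinite (IrrCharacter G)
  have hmul : ∀ s : ℕ, N % s = 0 → Nat.card G = s * (N / s) := fun s hs => by
    rw [hN, Nat.mul_div_cancel' (Nat.dvd_of_mod_eq_zero hs)]
  have hnd : ∀ s : ℕ, N % s = 0 → N % s ^ 2 ≠ 0 → ¬ s ∣ N / s := by
    intro s hs hs2 h
    apply hs2
    obtain ⟨k, hk⟩ := h
    have h7 : N = s ^ 2 * k := by
      rw [sq, mul_assoc, ← hk, Nat.mul_div_cancel' (Nat.dvd_of_mod_eq_zero hs)]
    rw [h7]; exact Nat.mul_mod_right _ _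
  obtain ⟨i, hi, hxi⟩ := exists_pow_conj hp hN h1 h2 hx hx'
  obtain ⟨j, hj, hyj⟩ := exists_pow_conj hr hN h3 h4 hy hy'
  have h5 : Prd (x ^ i) (y ^ j) (x' * y') := by
    obtain ⟨a, ha⟩ := isConj_iff.1 hxi
    obtain ⟨b, hb⟩ := isConj_iff.1 hyj
    exact ⟨a, b, by rw [ha, hb]⟩
  have hdvd : ∀ {s k : ℕ}, s.Prime → Nat.card G = s * k → ∀ z : G, ¬ s ∣ orderOf z → orderOf z ∣ k := by
    intro s k hs hk z hz
    have h1 : orderOf z ∣ s * k := by rw [← hk]; exact orderOf_dvd_natCard z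
    exact (Nat.Coprime.symm ((hs.coprime_iff_not_dvd).2 hz)).dvd_of_dvd_mul_left h1
  have hyn : orderOf y ∣ N / p := hdvd hp (hmul p h1) y (by
    rw [hy]; exact fun h => hpr ((Nat.prime_dvd_prime_iff_eq hp hr).1 h))
  have hxn : orderOf x ∣ N / r := hdvd hr (hmul r h3) x (by
    rw [hx]; exact fun h => hpr ((Nat.prime_dvd_prime_iff_eq hr hp).1 h).symm)
  have hgn := hdvd hp (hmul p h1) (x' * y') hg
  have hgn' := hdvd hr (hmul r h3) (x' * y') hg'
  have h6 : SS (x ^ i) (y ^ j) (x' * y') = SS x y (x' * y') := by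
    rw [SS_comm, SS_left hr (hnd r h3 h4) (hmul r h3) hj hy ((orderOf_pow_dvd i).trans hxn) hgn', SS_comm,
      SS_left hp (hnd p h1 h2) (hmul p h1) hi hx hyn hgn]
  apply prd_of_ne_zero
  have h7 := SS_ne_zero h5
  rw [h6] at h7
  exact h7

/-- the mean of a character with values `±1` whose degree is `1` modulo `p` -/
theorem norm_av_st {G : Type*} [Group G] [Finite G] {p : ℕ} (hp : p.Prime) (hp2 : ¬ 2 ∣ p) {w : G} (hw : orderOf w = p)
    {χ : IrrCharacter G} {D : ℕ} (hD : (χ : G → ℂ) 1 = D) (hmod : D % p = 1)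
    (hv : ∀ i ∈ Finset.Ico 1 p, (χ : G → ℂ) (w ^ i) = 1 ∨ (χ : G → ℂ) (w ^ i) = -1) : ‖av p w χ‖ = 1 := by
  classical
  have := Fintype.ofFinite (zpowers w)
  obtain ⟨m, hm⟩ := SmallSimple.TheoremBCor.exists_sum_eq (Core.isIrr_isCharacter χ.2) (zpowers w)
  have hcard : Nat.card (zpowers w) = p := by rw [Nat.card_zpowers, hw]
  have h1 : ∑ u : zpowers w, (χ : G → ℂ) u = ∑ i ∈ Finset.range p, (χ : G → ℂ) (w ^ i) := by
    have h2 : ∑ u : zpowers w, (χ : G → ℂ) u = ∑ i : Fin (orderOf w), (χ : G → ℂ) (w ^ (i : ℕ)) := by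
      rw [← Equiv.sum_comp (finEquivZPowers (isOfFinOrder_of_finite w))]
      exact Finset.sum_congr rfl fun i _ => rfl
    rw [h2, Fin.sum_univ_eq_sum_range (fun i => (χ : G → ℂ) (w ^ i)) (orderOf w), hw]
  obtain ⟨v, hv'⟩ : ∃ v : ℕ → ℤ, ∀ i ∈ Finset.Ico 1 p, (χ : G → ℂ) (w ^ i) = v i ∧ (v i = 1 ∨ v i = -1) := by
    refine ⟨fun i => if (χ : G → ℂ) (w ^ i) = 1 then 1 else -1, fun i hi => ?_⟩
    beta_reduce
    rcases hv i hi with h | h
    · rw [if_pos h]; exact ⟨by rw [h]; simp, Or.inl rfl⟩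
    · have h3 : (χ : G → ℂ) (w ^ i) ≠ 1 := by rw [h]; norm_num
      rw [if_neg h3]; exact ⟨by rw [h]; simp, Or.inr rfl⟩
  have h3 : ∀ s : Finset ℕ, (∀ i ∈ s, v i = 1 ∨ v i = -1) → ∃ k : ℕ, k ≤ s.card ∧ ∑ i ∈ s, v i = s.card - 2 * k := by
    intro s
    induction s using Finset.induction_on with
    | empty => intro _; exact ⟨0, le_rfl, by simp⟩
    | insert a s ha ih =>
      intro h
      obtain ⟨k, hk, hk'⟩ := ih fun i hi => h i (Finset.mem_insert_of_mem hi)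
      rw [Finset.sum_insert ha, Finset.card_insert_of_notMem ha, hk']
      rcases h a (Finset.mem_insert_self a s) with h4 | h4
      · exact ⟨k, by omega, by rw [h4]; push_cast; ring⟩
      · exact ⟨k + 1, by omega, by rw [h4]; push_cast; ring⟩
  obtain ⟨k, hk, hk'⟩ := h3 (Finset.Ico 1 p) fun i hi => (hv' i hi).2
  rw [Nat.card_Ico] at hk hk'
  have h5 : ∑ i ∈ Finset.Ico 1 p, (χ : G → ℂ) (w ^ i) = ((∑ i ∈ Finset.Ico 1 p, v i : ℤ) : ℂ) := by
    rw [Int.cast_sum]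
    exact Finset.sum_congr rfl fun i hi => (hv' i hi).1
  rw [h1, hcard, Finset.range_eq_Ico, Finset.sum_eq_sum_Ico_succ_bot hp.pos, pow_zero, hD, h5] at hm
  have h6 : (D : ℤ) + ∑ i ∈ Finset.Ico 1 p, v i = m * p := by exact_mod_cast hm
  have hp1 := hp.two_le
  have h7 : ∑ i ∈ Finset.Ico 1 p, v i = (p : ℤ) - 1 := by
    rw [hk'] at h6 ⊢
    have hD2 : (D : ℤ) = p * (D / p : ℕ) + 1 := by
      have := Nat.div_add_mod D p
      rw [hmod] at this
      exact_mod_cast this.symm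
    rw [hD2] at h6
    have hk0 : k = 0 := by
      by_contra hne
      have h8 : (p : ℤ) ∣ 2 * k := ⟨(D / p : ℕ) + 1 - m, by
        have h9 : ((p - 1 : ℕ) : ℤ) = (p : ℤ) - 1 := by omega
        rw [h9] at h6
        linear_combination -h6⟩
      have h10 : p ∣ 2 * k := by exact_mod_cast h8
      rcases (Nat.Prime.dvd_mul hp).1 h10 with h11 | h11
      · exact hp2 (by rw [(Nat.prime_dvd_prime_iff_eq hp Nat.prime_two).1 h11])
      · have := Nat.le_of_dvd (Nat.pos_of_ne_zero hne) h11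
        omega
    rw [hk0]
    push_cast
    omega
  unfold av
  rw [h5, h7]
  have hpr : ((p : ℂ) - 1) ≠ 0 := by
    rw [sub_ne_zero]; exact_mod_cast hp.one_lt.ne'
  push_cast
  rw [div_self hpr, norm_one]

theorem van_of {G : Type*} [Group G] [Finite G] {p n : ℕ} (hp : p.Prime) (hpn : p ^ n ∣ Nat.card G)
    (hpn' : ¬ p ^ (n + 1) ∣ Nat.card G) {χ : G → ℂ} (hχ : IsIrrCharacter G χ) (h1 : χ 1 = ((p ^ n : ℕ) : ℂ)) {x : G}
    (hx : p ∣ orderOf x) : χ x = 0 := by
  obtain ⟨m, ρ, hρ, rfl⟩ := hχ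
  refine S0165.result ρ p n hp hpn hpn' ?_ x hx
  rw [Representation.char_one] at h1
  have h2 : Module.finrank ℂ (Fin m → ℂ) = p ^ n := by exact_mod_cast h1
  rw [h2]

theorem lie3 : IsLieTypeChar 3 Gf :=
  Or.inr (Or.inr (Or.inr (Or.inr (Or.inr (Or.inr (Or.inl
    ⟨ZMod 3, inferInstance, inferInstance, inferInstance, Or.inr (Or.inl ⟨MulEquiv.refl _⟩)⟩))))))

theorem cardF : Nat.card Gf = 5734420792816671844761600 := H938.Pw.FThree.card_eq (by simp)

theorem simpleF : IsSimpleGroup Gf := H938.Pw.FThree.simple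

theorem na_of {G : Type*} [Group G] [Finite G] {x : G} {c N : ℕ} (hN : Nat.card G = N)
    (hc : Nat.card (centralizer ({x} : Set G)) = c) (h : N ≠ c) : ¬ IsMulCommutative G := by
  intro hcm
  have h1 : centralizer ({x} : Set G) = ⊤ := by
    rw [eq_top_iff]
    intro g _
    rw [mem_centralizer_singleton_iff]
    exact hcm.is_comm.comm _ _
  rw [h1, Nat.card_congr (Subgroup.topEquiv (G := G)).toEquiv, hN] at hc
  exact h hc

/-- The package. -/
structure FP (x y : Gf) (St : IrrCharacter Gf) : Prop where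
  pair : Pair x y 73 41 St (61 / 6) (72 / 5)
  cx : Nat.card (centralizer ({x} : Set Gf)) = 73
  cy : Nat.card (centralizer ({y} : Set Gf)) = 82
  van : ∀ g : Gf, 3 ∣ orderOf g → (St : Gf → ℂ) g = 0

theorem three_singular {x y : Gf} {St : IrrCharacter Gf} (_h : FP x y St) {g : Gf} (hg : 3 ∣ orderOf g) :
    ¬ 73 ∣ orderOf g ∧ ¬ 41 ∣ orderOf g := by
  have key : ∀ (s c : ℕ), s.Prime → 5734420792816671844761600 % s = 0 → 5734420792816671844761600 % s ^ 2 ≠ 0 →
      ¬ 3 ∣ c → (∃ w : Gf, orderOf w = s ∧ Nat.card (centralizer ({w} : Set Gf)) = c) → ¬ s ∣ orderOf g := by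
    rintro s c hs h1 h2 h3 ⟨w, hw, hcw⟩ hsg
    set u := g ^ (orderOf g / s) with hu
    have hpos : 0 < orderOf g := orderOf_pos g
    have hou : orderOf u = s := by
      rw [hu, orderOf_pow, Nat.gcd_eq_right (Nat.div_dvd_of_dvd hsg)]
      exact Nat.div_div_self hsg hpos.ne'
    obtain ⟨i, hi, hiu⟩ := exists_pow_conj hs cardF h1 h2 hw hou
    have hcu : Nat.card (centralizer ({u} : Set Gf)) = c := by
      rw [Blocks.SylowIn.card_centralizer_of_isConj hiu, centralizer_pow_eq hs hw hi, hcw]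
    apply h3
    rw [← hcu]
    have h5 : g ∈ centralizer ({u} : Set Gf) := by
      rw [mem_centralizer_singleton_iff, hu, ← pow_succ, ← pow_succ']
    have h6 := orderOf_dvd_natCard (⟨g, h5⟩ : centralizer ({u} : Set Gf))
    rw [orderOf_mk] at h6
    exact hg.trans h6
  exact ⟨key 73 73 (by norm_num) (by decide +kernel) (by decide +kernel) (by decide) ⟨x, _h.pair.hx, _h.cx⟩,
    key 41 82 (by norm_num) (by decide +kernel) (by decide +kernel) (by decide) ⟨y, _h.pair.hy, _h.cy⟩⟩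

theorem exists_pair : ∃ (x y : Gf) (St : IrrCharacter Gf), FP x y St := by
  have hs := simpleF
  have : Fact (Nat.Prime 3) := ⟨Nat.prime_three⟩
  obtain ⟨x, hx, hcx⟩ := H938.Pw.FThree.exists_73 (K := ZMod 3) (by simp)
  obtain ⟨y, hy, hcy⟩ := H938.Pw.FThree.exists_41 (K := ZMod 3) (by simp)
  obtain ⟨χ, hχ, hχ1, hχv⟩ := H330.GowSt.exists_st_of_hasSplit
    (H330.Gow.hasSplit_of_ab (H716.SplitAb.hasSplitAb_of_lie Nat.prime_three lie3))
  have hfac : (Nat.card Gf).factorization 3 = 24 := by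
    rw [cardF]
    refine le_antisymm ?_ ?_
    · by_contra hc
      have h1 := (Nat.prime_three.pow_dvd_iff_le_factorization (k := 25)
        (n := 5734420792816671844761600) (by decide +kernel)).2 (by omega)
      revert h1
      decide +kernel
    · exact (Nat.prime_three.pow_dvd_iff_le_factorization (k := 24)
        (n := 5734420792816671844761600) (by decide +kernel)).1 (by decide +kernel)
  rw [hfac] at hχ1
  -- the values at the powers
  have hval : ∀ (s c : ℕ) (w : Gf), s.Prime → orderOf w = s → ¬ 3 ∣ s → ¬ 3 ∣ c →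
      Nat.card (centralizer ({w} : Set Gf)) = c → ∀ i ∈ Finset.Ico 1 s, χ (w ^ i) = 1 ∨ χ (w ^ i) = -1 := by
    intro s c w hs hw h3 h3c hcw i hi
    have h1 : ¬ 3 ∣ orderOf (w ^ i) := fun h => h3 (by rw [← hw]; exact h.trans (orderOf_pow_dvd i))
    have h2 := hχv (w ^ i) h1
    rw [centralizer_pow_eq hs hw hi, hcw, Nat.factorization_eq_zero_of_not_dvd h3c, pow_zero, Nat.cast_one] at h2
    exact h2
  have hsx : ‖av 73 x ⟨χ, hχ⟩‖ = 1 := norm_av_st (by norm_num) (by norm_num) hx (D := 3 ^ 24) hχ1 (by norm_num)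
    (hval 73 73 x (by norm_num) hx (by norm_num) (by norm_num) hcx)
  have hsy : ‖av 41 y ⟨χ, hχ⟩‖ = 1 := norm_av_st (by norm_num) (by norm_num) hy (D := 3 ^ 24) hχ1 (by norm_num)
    (hval 41 82 y (by norm_num) hy (by norm_num) (by norm_num) hcy)
  refine ⟨x, y, ⟨χ, hχ⟩, ?_, hcx, hcy, ?_⟩
  · have h := Pair.of (na_of cardF hcx (by decide +kernel)) cardF (p := 73) (r := 41) (by norm_num) (by norm_num) (by norm_num) hx hy hcx hcy
      (e := 12) (e' := 8) (t := 6) (S := 1000000000) (by decide +kernel) (by norm_num) (by norm_num) (by norm_num)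
      (by norm_num) (by norm_num) (by norm_num) (St := ⟨χ, hχ⟩) (by
        intro h
        have h1 : χ 1 = (one1 Gf : Gf → ℂ) 1 := congrFun (congrArg Subtype.val h) 1
        rw [hχ1, one1_apply] at h1
        norm_num at h1) hsx hsy
    norm_num at h
    exact h
  · intro g hg
    exact van_of Nat.prime_three (n := 24) (by rw [cardF]; decide +kernel) (by rw [cardF]; decide +kernel) hχ hχ1 hg

/-- elements with a small centralizer -/
theorem FP.small {x y : Gf} {St : IrrCharacter Gf} (h : FP x y St) {g : Gf} (h3 : 3 ∣ orderOf g)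
    (hg : Nat.card (centralizer ({g} : Set Gf)) ≤ 4976985092) : Prd x y g := by
  obtain ⟨x', y', hx', hy', rfl⟩ := H938.Pw.FThree.prod (K := ZMod 3) (by simp) hg
  obtain ⟨h1, h2⟩ := three_singular h h3
  exact prd_of_exists (by norm_num) (by norm_num) (by norm_num) cardF (by decide +kernel) (by decide +kernel)
    (by decide +kernel) (by decide +kernel) h.pair.hx h.pair.hy hx' hy' h1 h2

/-- semisimple elements (Gow's theorem) -/
theorem FP.semi {x y : Gf} {St : IrrCharacter Gf} (h : FP x y St) {g : Gf} (hg1 : g ≠ 1) (h3 : ¬ 3 ∣ orderOf g) :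
    Prd x y g := by
  obtain ⟨a, b, hab⟩ := H330.Gow.gow Nat.prime_three lie3 (x := x) (y := y) (z := g) (by rw [h.cx]; norm_num)
    (by rw [h.cy]; norm_num) hg1 h3
  exact ⟨a, b, hab.symm⟩

/-- **the weights** -/
theorem FP.wt {x y : Gf} {St : IrrCharacter Gf} (h : FP x y St) [Fintype (IrrCharacter Gf)] :
    ∑ χ ∈ mid Gf St, ‖av 73 x χ‖ * ‖av 41 y χ‖ ≤ 51 / 5 := by
  classical
  have hs := simpleF
  obtain ⟨NE, X, hdis, hNE, hX, hone, hv, hvX, hz, heq⟩ := exists_NEX (na_of cardF h.cx (by decide +kernel)) (p := 73) (by norm_num) cardF h.pair.hx h.cx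
    12 6 1000000000 (by decide +kernel)
  have hB : ∀ χ : IrrCharacter Gf, ‖av 41 y χ‖ = 0 ∨ ‖av 41 y χ‖ = 1 / (5 : ℕ) ∨ ‖av 41 y χ‖ = 1 :=
    norm_av_cases (na_of cardF h.cx (by decide +kernel)) (p := 41) (by norm_num) cardF h.pair.hy (k := 2) (by rw [h.cy]) 8 5 (by norm_num)
      [(0, 0), (1, 5), (40, -5), (8, -1), (33, 1)] 0 false (by decide +kernel) (by decide)
  have hStN : St ∈ NE := by
    by_contra h1
    have h2 := h.pair.st_x
    by_cases h3 : St ∈ X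
    · rw [hvX St h3] at h2
      norm_num at h2
    · rw [hz St h1 h3] at h2
      norm_num at h2
  have hSt1 := h.pair.ne_one
  set NM := (NE.erase (one1 Gf)).erase St with hNM
  have hNMc : NM.card = 10 := by
    rw [hNM, Finset.card_erase_of_mem (Finset.mem_erase.2 ⟨hSt1, hStN⟩), Finset.card_erase_of_mem hone, hNE]
  have hsub : NM ∪ X ⊆ mid Gf St := by
    intro χ hχ
    rw [mem_mid]
    rcases Finset.mem_union.1 hχ with h1 | h1
    · rw [hNM, Finset.mem_erase, Finset.mem_erase] at h1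
      exact ⟨h1.1, h1.2.1⟩
    · exact ⟨fun h2 => Finset.disjoint_left.1 hdis hStN (h2 ▸ h1), fun h2 => Finset.disjoint_left.1 hdis hone (h2 ▸ h1)⟩
  have hdisM : Disjoint NM X :=
    Finset.disjoint_of_subset_left ((Finset.erase_subset _ _).trans (Finset.erase_subset _ _)) hdis
  have h1 : ∑ χ ∈ mid Gf St, ‖av 73 x χ‖ * ‖av 41 y χ‖ = ∑ χ ∈ NM ∪ X, ‖av 73 x χ‖ * ‖av 41 y χ‖ := by
    symm
    refine Finset.sum_subset hsub fun χ hχ hχ' => ?_
    rw [mem_mid] at hχ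
    rw [Finset.mem_union, not_or] at hχ'
    have h2 : χ ∉ NE := fun h3 => hχ'.1 (by
      rw [hNM, Finset.mem_erase, Finset.mem_erase]
      exact ⟨hχ.1, hχ.2, h3⟩)
    rw [hz χ h2 hχ'.2, zero_mul]
  have h2 : ∑ χ ∈ NM, ‖av 73 x χ‖ * ‖av 41 y χ‖ = ∑ χ ∈ NM, ‖av 41 y χ‖ := by
    refine Finset.sum_congr rfl fun χ hχ => ?_
    rw [hNM, Finset.mem_erase, Finset.mem_erase] at hχ
    rw [hv χ hχ.2.2, one_mul]
  obtain ⟨Θ, hΘ⟩ : X.Nonempty := by rw [← Finset.card_pos, hX]; norm_num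
  set b := ‖av 41 y Θ‖ with hb
  have hbeq : ∀ χ ∈ X, ‖av 41 y χ‖ = b := by
    intro χ hχ
    have h3 : av 41 y χ = av 41 y Θ := by
      unfold av
      congr 1
      refine Finset.sum_congr rfl fun i _ => ?_
      refine heq χ hχ Θ hΘ (y ^ i) ?_
      intro h4
      have h5 := h4.trans (orderOf_pow_dvd (x := y) i)
      rw [h.pair.hy] at h5
      norm_num at h5
    rw [h3]
  have h3 : ∑ χ ∈ X, ‖av 73 x χ‖ * ‖av 41 y χ‖ = b := by
    have h4 : ∀ χ ∈ X, ‖av 73 x χ‖ * ‖av 41 y χ‖ = 1 / 6 * b := by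
      intro χ hχ
      rw [hvX χ hχ, hbeq χ hχ]
      norm_num
    rw [Finset.sum_congr rfl h4, Finset.sum_const, hX, nsmul_eq_mul]
    ring
  rw [h1, Finset.sum_union hdisM, h2, h3]
  have h5 : ∀ χ : IrrCharacter Gf, ‖av 41 y χ‖ ≤ 1 := by
    intro χ
    rcases hB χ with h6 | h6 | h6 <;> rw [h6] <;> norm_num
  have h6 : ∑ χ ∈ NM, ‖av 41 y χ‖ ≤ 10 := by
    have h7 := Finset.sum_le_sum (s := NM) fun χ _ => h5 χ
    rw [Finset.sum_const, hNMc] at h7
    simpa using h7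
  rcases hB Θ with h7 | h7 | h7
  · rw [← hb] at h7; rw [h7]; linarith
  · rw [← hb] at h7; rw [h7]; push_cast; linarith
  · rw [← hb] at h7
    have h8 := h.pair.mid_y
    have h9 : ∑ χ ∈ NM ∪ X, ‖av 41 y χ‖ ^ 2 ≤ 72 / 5 := by
      rw [← h8]
      exact Finset.sum_le_sum_of_subset_of_nonneg hsub fun _ _ _ => by positivity
    have h10 : ∑ χ ∈ X, ‖av 41 y χ‖ ^ 2 = 6 := by
      rw [Finset.sum_congr rfl fun χ hχ => by rw [hbeq χ hχ, h7, one_pow], Finset.sum_const, hX]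
      norm_num
    rw [Finset.sum_union hdisM, h10] at h9
    have h11 := Finset.sum_mul_sq_le_sq_mul_sq NM (fun χ => ‖av 41 y χ‖) (fun _ => (1 : ℝ))
    simp only [mul_one, one_pow, Finset.sum_const, hNMc, nsmul_eq_mul] at h11
    push_cast at h11
    have h12 : (∑ χ ∈ NM, ‖av 41 y χ‖) ^ 2 ≤ 84 := by linarith
    have h13 : 0 ≤ ∑ χ ∈ NM, ‖av 41 y χ‖ := Finset.sum_nonneg fun _ _ => norm_nonneg _
    rw [h7]
    nlinarith

/-- **the ratio criterion** -/
theorem FP.ratio {x y : Gf} {St : IrrCharacter Gf} (h : FP x y St) {g : Gf} (h3 : 3 ∣ orderOf g) {ρ : ℝ} (hρ : 0 ≤ ρ)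
    (hρ' : ρ * (51 / 5) < 1)
    (hrat : ∀ χ : IrrCharacter Gf, χ ≠ one1 Gf → χ ≠ St → ‖(χ : Gf → ℂ) g‖ ≤ ρ * ‖(χ : Gf → ℂ) 1‖) : Prd x y g := by
  obtain ⟨h1, h2⟩ := three_singular h h3
  exact h.pair.prd_of_wt h1 h2 (h.van g h3) (fun {_} => h.wt) hρ hρ' hrat

/-- the orders are prime to `6` -/
theorem FP.cop {x y : Gf} {St : IrrCharacter Gf} (h : FP x y St) :
    Nat.Coprime (orderOf x) 6 ∧ Nat.Coprime (orderOf y) 6 := by
  rw [h.pair.hx, h.pair.hy]
  norm_num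

end Cfsg.Agent.H885.FT
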