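import Cfsg.Agent.H885.FT.F43
import Cfsg.Agent.H777.T6.Defs
import Cfsg.Agent.H64.ChevField

/-!
# The row `F₄(3)` of S2464 from the reduction and the ratio bound (helper885)

* `t6_of_red` : `T6 F₄(3)` from a reduction theorem (for class properties `P` of the 3-singular elements) and the ratio bound
  `11 ‖χ(g)‖ ≤ ‖χ(1)‖` for the elements `RT` left over by the reduction;
* `t6_card` : the same for `chevF4.group K`, `|K| = 3`.
-/

set_option autoImplicit false

namespace Cfsg.Agent.H885.FT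

open Cfsg Cfsg.Lie Cfsg.Agent.Characters Subgroup Cfsg.Agent.H65.Ore Cfsg.Agent.H777.T6

universe u

/-- **The assembly.** -/
theorem t6_of_red {RT : Gf → Prop}
    (hred : ∀ P : Gf → Prop, (∀ a b : Gf, IsConj a b → P b → P a) →
      (∀ g : Gf, 3 ∣ orderOf g → Nat.card (centralizer ({g} : Set Gf)) ≤ 4976985092 → P g) →
      (∀ g : Gf, 3 ∣ orderOf g → RT g → P g) → ∀ g : Gf, 3 ∣ orderOf g → P g)
    (hRT : ∀ g : Gf, 3 ∣ orderOf g → RT g → ∀ χ : IrrCharacter Gf, χ ≠ one1 Gf →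
      11 * ‖(χ : Gf → ℂ) g‖ ≤ ‖(χ : Gf → ℂ) 1‖) : T6 Gf := by
  obtain ⟨x, y, St, h⟩ := exists_pair
  refine ⟨x, y, h.cop.1, h.cop.2, fun g hg => ?_⟩
  change Prd x y g
  by_cases h3 : 3 ∣ orderOf g
  · refine hred (fun g => Prd x y g) (fun a b hab hb => hb.of_isConj hab.symm) (fun g h3 hc => h.small h3 hc)
      (fun g h3 hr => ?_) g h3
    refine h.ratio h3 (ρ := 1 / 11) (by norm_num) (by norm_num) fun χ hχ _ => ?_
    have h1 := hRT g h3 hr χ hχ
    linarith
  · exact h.semi hg h3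

theorem t6_card {p : ℕ} [Fact p.Prime] (h : T6 ↥(chevF4.group (ZMod p))) {K : Type u} [Field K]
    (hK : Nat.card K = p) : T6 ↥(chevF4.group K) := by
  have hp : p.Prime := Fact.out
  have : Finite K := Nat.finite_of_card_ne_zero (by rw [hK]; exact hp.ne_zero)
  let _ : Fintype K := Fintype.ofFinite K
  have hc : Fintype.card K = Fintype.card (ZMod p) := by
    rw [ZMod.card, ← Nat.card_eq_fintype_card, hK]
  let e := Cfsg.Agent.H64.ChevField.groupCongr (FiniteField.ringEquivOfCardEq hc) chevF4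
  exact T6.of_equiv e h

/-- **The row `F₄(3)`**, over any field with `3` elements. -/
theorem t6_three {RT : Gf → Prop}
    (hred : ∀ P : Gf → Prop, (∀ a b : Gf, IsConj a b → P b → P a) →
      (∀ g : Gf, 3 ∣ orderOf g → Nat.card (centralizer ({g} : Set Gf)) ≤ 4976985092 → P g) →
      (∀ g : Gf, 3 ∣ orderOf g → RT g → P g) → ∀ g : Gf, 3 ∣ orderOf g → P g)
    (hRT : ∀ g : Gf, 3 ∣ orderOf g → RT g → ∀ χ : IrrCharacter Gf, χ ≠ one1 Gf →
      11 * ‖(χ : Gf → ℂ) g‖ ≤ ‖(χ : Gf → ℂ) 1‖) {K : Type u} [Field K] (hK : Nat.card K = 3) :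
    T6 ↥(chevF4.group K) :=
  t6_card (p := 3) (t6_of_red hred hRT) hK

/-- the irreducible characters, from representations -/
theorem irr_of_rep {G : Type*} [Group G] [Finite G] {P : (G → ℂ) → Prop}
    (h : ∀ (m : ℕ) (ρ : Representation ℂ G (Fin m → ℂ)), ρ.IsIrreducible → (∃ g, ρ g ≠ 1) → P ρ.character)
    (χ : IrrCharacter G) (hχ : χ ≠ one1 G) : P χ := by
  obtain ⟨m, ρ, hρ, hρχ⟩ := χ.2
  rw [← hρχ]
  refine h m ρ hρ ?_
  by_contra hc
  push Not at hc
  have := Fintype.ofFinite G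
  have h1 : ∀ g : G, (χ : G → ℂ) g = m := by
    intro g
    rw [← hρχ]
    show LinearMap.trace ℂ _ (ρ g) = m
    rw [hc g, LinearMap.trace_one, Module.finrank_fin_fun]
  have hm : (m : ℂ) ≠ 0 := by
    rw [← h1 1]
    exact Core.isIrr_apply_one_ne_zero χ.2
  have h2 := Core.classInner_irr_ne χ.2 (Core.isIrr_one (G := G)) (coe_ne_one hχ)
  rw [Core.classInner_def] at h2
  simp [h1, hm] at h2

end Cfsg.Agent.H885.FT
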