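import Cfsg.Agent.H885.FT.Eng
import Cfsg.Agent.H653.Sieve.Col

/-!
# The weights of the pair (S2464, F4(3), helper885)

* `exists_NEX` : the means `A_χ` of a self-centralizing exact prime: `‖A‖ = 1` on `NE` (`e` characters), `1 / t` on `X` (`t` characters,
  equal on `p`-regular elements), `0` elsewhere;
* `norm_av_cases` : the means of an exact prime `41`-type: `‖B‖ ∈ {0, 1 / t, 1}` from `H653/Sieve`;
* `Pair.prd_of_wt` : `∑_{χ ≠ 1, St} ‖A‖ ‖B‖ ≤ w` and `ρ w < 1`.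
-/

set_option autoImplicit false

namespace Cfsg.Agent.H885.FT

open Cfsg Cfsg.Agent.Characters Subgroup Cfsg.Agent.H65.Ore
open scoped ComplexConjugate

universe u

variable {G : Type u} [Group G] [Finite G]

theorem exists_NEX [IsSimpleGroup G] (hG : ¬ IsMulCommutative G) {p : ℕ} (hp : p.Prime) {N : ℕ}
    (hN : Nat.card G = N) {x : G} (hx : orderOf x = p) (hc : Nat.card (centralizer ({x} : Set G)) = p)
    (e t S : ℕ) (hnum : chkSC N p e t S = true) :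
    ∃ NE X : Finset (IrrCharacter G), Disjoint NE X ∧ NE.card = e ∧ X.card = t ∧ one1 G ∈ NE ∧
      (∀ χ ∈ NE, ‖av p x χ‖ = 1) ∧ (∀ χ ∈ X, ‖av p x χ‖ = 1 / t) ∧
      (∀ χ : IrrCharacter G, χ ∉ NE → χ ∉ X → ‖av p x χ‖ = 0) ∧
      ∀ Θ ∈ X, ∀ Θ' ∈ X, ∀ g : G, ¬ p ∣ orderOf g → (Θ : G → ℂ) g = (Θ' : G → ℂ) g := by
  classical
  have : Fact p.Prime := ⟨hp⟩
  obtain ⟨hp2, ht, -, he0, P, hP, hC, hrel, hconj⟩ := setup hG hp hN hx hc e t S hnum
  obtain ⟨NE, X, ε, d, T, hdis, hNE, hX, hε, hd, hone, hv, hvX, hXd, hreg, hz⟩ :=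
    SmallSimple.TheoremBCor.theoremB_selfCent p hp2 P hP hC e t hrel ht
  obtain ⟨z, hzP, hz1, hxz⟩ := hconj x hx
  have hzo : orderOf z = p := by
    exact orderOf_eq_prime (by
      have h4 : z ^ Nat.card P = 1 := by
        have h5 : (⟨z, hzP⟩ : P) ^ Nat.card P = 1 := pow_card_eq_one'
        have h6 := congrArg (Subtype.val) h5
        simpa using h6
      rwa [hP] at h4) hz1
  have hpr : ((p : ℂ) - 1) ≠ 0 := by
    rw [sub_ne_zero]; exact_mod_cast hp.one_lt.ne'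
  have hval : ∀ (χ : IrrCharacter G) i, (χ : G → ℂ) (x ^ i) = (χ : G → ℂ) (z ^ i) := by
    intro χ i
    obtain ⟨g, rfl⟩ := isConj_iff.1 hxz
    rw [conj_pow]
    exact (Core.isIrr_isClassFunction χ.2 (x ^ i) g).symm
  have hzi : ∀ i ∈ Finset.Ico 1 p, z ^ i ∈ (P : Subgroup G) ∧ z ^ i ≠ 1 := fun i hi =>
    ⟨pow_mem hzP i, pow_ne_one_of_mem hzo hi⟩
  refine ⟨NE, X, hdis, hNE, hX, ?_, ?_, ?_, ?_, ?_⟩
  · obtain ⟨χ, hχ, hχ1, -⟩ := hone
    have : χ = one1 G := Subtype.ext hχ1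
    rw [← this]
    exact hχ
  · intro χ h1
    unfold av
    simp only [hval]
    rw [Finset.sum_congr rfl fun i hi => hv χ h1 (z ^ i) (hzi i hi).1 (hzi i hi).2, Finset.sum_const, Nat.card_Ico,
      nsmul_eq_mul, Nat.cast_sub hp.one_le, Nat.cast_one, mul_div_assoc, mul_comm, div_mul_cancel₀ _ hpr]
    rcases hε χ h1 with h | h <;> rw [h] <;> simp
  · intro χ h2
    unfold av
    simp only [hval]
    obtain ⟨hSc, hS1, hSv⟩ := hvX χ h2
    have h3 : ∀ i ∈ Finset.Ico 1 p, (χ : G → ℂ) (z ^ i) = d * ∑ l ∈ T χ, ((l ⟨z, hzP⟩ : ℂˣ) : ℂ) ^ i := by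
      intro i hi
      have h4 := hSv ⟨z ^ i, (hzi i hi).1⟩ (fun h => (hzi i hi).2 (congrArg Subtype.val h))
      rw [h4]
      congr 1
      refine Finset.sum_congr rfl fun l _ => ?_
      have h5 : (⟨z ^ i, (hzi i hi).1⟩ : P) = ⟨z, hzP⟩ ^ i := Subtype.ext (by simp)
      rw [h5, map_pow]
      push_cast
      rfl
    have h6 : ∀ l ∈ T χ, ∑ i ∈ Finset.Ico 1 p, ((l ⟨z, hzP⟩ : ℂˣ) : ℂ) ^ i = -1 := by
      intro l hl
      apply sum_root hp
      · have h7 : (⟨z, hzP⟩ : P) ^ p = 1 := Subtype.ext (show z ^ p = 1 by rw [← hzo]; exact pow_orderOf_eq_one z)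
        have h8 : (l ⟨z, hzP⟩) ^ p = 1 := by rw [← map_pow, h7, map_one]
        rw [← Units.val_pow_eq_pow_val, h8, Units.val_one]
      · intro h7
        apply hS1
        have h8 : l = 1 := by
          ext w
          have hw : (w : G) ∈ zpowers z := by
            rw [zpowers_eq (P := (P : Subgroup G)) hP hzP hz1]; exact w.2
          obtain ⟨k, hk⟩ := mem_zpowers_iff.1 hw
          have h9 : w = ⟨z, hzP⟩ ^ k := Subtype.ext (by simp [hk])
          have h10 : l ⟨z, hzP⟩ = 1 := Units.ext h7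
          rw [h9, map_zpow, h10, one_zpow]
          rfl
        rwa [h8] at hl
    have h7 : ∑ i ∈ Finset.Ico 1 p, (χ : G → ℂ) (z ^ i) = -(d * e) := by
      rw [Finset.sum_congr rfl h3, ← Finset.mul_sum, Finset.sum_comm, Finset.sum_congr rfl h6, Finset.sum_const, hSc]
      simp
    rw [h7, norm_div, norm_neg, norm_mul]
    have h8 : ‖(d : ℂ)‖ = 1 := by rcases hd with h | h <;> rw [h] <;> simp
    have h9 : ‖(e : ℂ)‖ = e := Complex.norm_natCast e
    have h11 : (1 : ℝ) < p := by exact_mod_cast hp.one_lt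
    have h10 : ‖((p : ℂ) - 1)‖ = (p : ℝ) - 1 := by
      rw [show ((p : ℂ) - 1) = (((p : ℝ) - 1 : ℝ) : ℂ) by push_cast; ring, Complex.norm_real, Real.norm_of_nonneg]
      linarith
    rw [h8, h9, h10, one_mul]
    have h12 : (e : ℝ) * t = (p : ℝ) - 1 := by
      have := congrArg (Nat.cast : ℕ → ℝ) ht
      rw [Nat.cast_mul, Nat.cast_sub hp.one_le, Nat.cast_one] at this
      exact this
    have he : (e : ℝ) ≠ 0 := by exact_mod_cast he0.ne'
    rw [← h12]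
    have ht0 : (t : ℝ) ≠ 0 := by
      intro h
      rw [h, mul_zero] at h12
      linarith
    field_simp
  · intro χ h1 h2
    unfold av
    simp only [hval]
    have h3 : ∀ i ∈ Finset.Ico 1 p, (χ : G → ℂ) (z ^ i) = 0 := fun i hi =>
      (hz χ h1 h2).1 _ (hzi i hi).1 (hzi i hi).2
    rw [Finset.sum_congr rfl h3]
    simp
  · intro Θ hΘ Θ' hΘ' g hg
    have h1 := hreg Θ hΘ g hg
    have h2 := hreg Θ' hΘ' g hg
    rw [h1] at h2
    have hd0 : (d : ℂ) ≠ 0 := by rcases hd with rfl | rfl <;> simp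
    exact mul_left_cancel₀ hd0 h2

/-- the sum over the nontrivial elements of a Sylow subgroup of prime order -/
theorem csum_eq_av {p : ℕ} (hp : p.Prime) {P : Subgroup G} (hP : Nat.card P = p) {y : G} (hy : orderOf y = p)
    {g : G} (hg : ∀ w ∈ P, g * w * g⁻¹ ∈ zpowers y) (χ : IrrCharacter G) :
    H653.Sieve.csum P (χ : G → ℂ) = ((p : ℂ) - 1) * av p y χ := by
  classical
  have hpr : ((p : ℂ) - 1) ≠ 0 := by
    rw [sub_ne_zero]; exact_mod_cast hp.one_lt.ne'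
  have := Fintype.ofFinite P
  have := Fintype.ofFinite (zpowers y)
  have hcard : Nat.card P = Nat.card (zpowers y) := by rw [hP, Nat.card_zpowers, hy]
  let f : P → zpowers y := fun w => ⟨g * w * g⁻¹, hg w w.2⟩
  have hf : Function.Bijective f := by
    rw [Fintype.bijective_iff_injective_and_card]
    refine ⟨fun a b h => ?_, by rw [← Nat.card_eq_fintype_card, ← Nat.card_eq_fintype_card, hcard]⟩
    have h1 : g * a * g⁻¹ = g * b * g⁻¹ := congrArg Subtype.val h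
    exact Subtype.ext (mul_left_cancel (mul_right_cancel h1))
  have h1 : ∑ w : P, (χ : G → ℂ) w = ∑ w : zpowers y, (χ : G → ℂ) w := by
    rw [← Function.Bijective.sum_comp hf]
    refine Finset.sum_congr rfl fun w _ => ?_
    exact (Core.isIrr_isClassFunction χ.2 (w : G) g).symm
  have h2 : ∑ u : zpowers y, (χ : G → ℂ) u = ∑ i ∈ Finset.range p, (χ : G → ℂ) (y ^ i) := by
    have h3 : ∑ u : zpowers y, (χ : G → ℂ) u = ∑ i : Fin (orderOf y), (χ : G → ℂ) (y ^ (i : ℕ)) := by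
      rw [← Equiv.sum_comp (finEquivZPowers (isOfFinOrder_of_finite y))]
      exact Finset.sum_congr rfl fun i _ => rfl
    rw [h3, Fin.sum_univ_eq_sum_range (fun i => (χ : G → ℂ) (y ^ i)) (orderOf y), hy]
  rw [H653.Sieve.csum_eq, h1, h2, Finset.range_eq_Ico, Finset.sum_eq_sum_Ico_succ_bot hp.pos, pow_zero]
  unfold av
  rw [mul_div_cancel₀ _ hpr]
  ring

theorem norm_av_cases [IsSimpleGroup G] (hG : ¬ IsMulCommutative G) {p : ℕ} (hp : p.Prime) {N : ℕ}
    (hN : Nat.card G = N) {y : G} (hy : orderOf y = p) {k : ℕ}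
    (hc : Nat.card (centralizer ({y} : Set G)) = p * k) (e t : ℕ) (het : e * t = p - 1) (wl : List (ℕ × ℤ)) (c : ℤ)
    (b : Bool) (hnum : H653.Sieve.numOK N p k e t wl c b = true)
    (hwl : ∀ a ∈ wl, a.2 = 0 ∨ a.2.natAbs = 1 ∨ a.2.natAbs = t) (χ : IrrCharacter G) :
    ‖av p y χ‖ = 0 ∨ ‖av p y χ‖ = 1 / t ∨ ‖av p y χ‖ = 1 := by
  classical
  have : Fact p.Prime := ⟨hp⟩
  have := Core.finite_irr (G := G)
  have := Fintype.ofFinite (IrrCharacter G)
  obtain ⟨P, W, hP, he0, hcol, hok⟩ := H653.Sieve.exists_col hG hN hy hc e t wl c b hnum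
  -- conjugate
  have h1 : ∃ g : G, ∀ w ∈ (P : Subgroup G), g * w * g⁻¹ ∈ zpowers y := by
    have hpg : IsPGroup p (zpowers y) := IsPGroup.of_card (n := 1) (by rw [Nat.card_zpowers, hy, pow_one])
    obtain ⟨Q, hQ⟩ := hpg.exists_le_sylow
    have hQc : Nat.card (Q : Subgroup G) = p := by
      have h2 : Nat.card (Q : Subgroup G) = Nat.card (P : Subgroup G) := by
        obtain ⟨g, hg⟩ := MulAction.exists_smul_eq G Q P
        rw [← hg]
        exact (Nat.card_congr (Subgroup.equivSMul (MulAut.conj g) (Q : Subgroup G)).toEquiv)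
      rw [h2]; exact hP
    have h5 : zpowers y = (Q : Subgroup G) :=
      Subgroup.eq_of_le_of_card_ge hQ (by rw [Nat.card_zpowers, hy, hQc])
    obtain ⟨g, hg⟩ := MulAction.exists_smul_eq G P Q
    refine ⟨g, fun w hw => ?_⟩
    rw [h5, ← hg]
    exact Subgroup.smul_mem_pointwise_smul w (MulAut.conj g) (P : Subgroup G) hw
  obtain ⟨g, hg⟩ := h1
  have h2 := hcol χ
  rw [csum_eq_av hp hP hy hg χ] at h2
  have hp1 : (1 : ℝ) < p := by exact_mod_cast hp.one_lt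
  have het' : (e : ℝ) * t = (p : ℝ) - 1 := by
    have := congrArg (Nat.cast : ℕ → ℝ) het
    rw [Nat.cast_mul, Nat.cast_sub hp.one_le, Nat.cast_one] at this
    exact this
  have he : (e : ℝ) ≠ 0 := by exact_mod_cast he0
  have ht0 : (t : ℝ) ≠ 0 := by
    intro h
    rw [h, mul_zero] at het'
    linarith
  have h3 : (e : ℝ) * ‖((W χ : ℤ) : ℂ)‖ = ((p : ℝ) - 1) * ‖av p y χ‖ := by
    have h4 := congrArg norm h2
    rw [norm_mul, norm_mul, Complex.norm_natCast] at h4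
    rw [h4]
    congr 1
    rw [show ((p : ℂ) - 1) = (((p : ℝ) - 1 : ℝ) : ℂ) by push_cast; ring, Complex.norm_real, Real.norm_of_nonneg]
    linarith
  have h4 : ‖av p y χ‖ = ‖((W χ : ℤ) : ℂ)‖ / t := by
    rw [← het'] at h3
    have h5 : (e : ℝ) * ‖((W χ : ℤ) : ℂ)‖ = e * (t * ‖av p y χ‖) := by rw [h3]; ring
    have h6 := mul_left_cancel₀ he h5
    rw [h6]
    field_simp
  have h7 : ‖((W χ : ℤ) : ℂ)‖ = ((W χ).natAbs : ℝ) := by
    rw [Complex.norm_intCast, ← Int.cast_abs, Int.abs_eq_natAbs]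
    simp
  rw [h4, h7]
  rcases hwl _ (hok.mem χ) with h | h | h
  · left
    change W χ = 0 at h
    rw [h]; simp
  · right; left
    change (W χ).natAbs = 1 at h
    rw [h]; simp
  · right; right
    change (W χ).natAbs = t at h
    rw [h]
    field_simp

variable {x y : G} {p r : ℕ} {St : IrrCharacter G} {a b : ℝ}

/-- **The ratio form with a weight bound.** -/
theorem Pair.prd_of_wt (h : Pair x y p r St a b) {g : G} (hg : ¬ p ∣ orderOf g) (hg' : ¬ r ∣ orderOf g)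
    (hSt : (St : G → ℂ) g = 0) {w : ℝ}
    (hw : ∀ [Fintype (IrrCharacter G)], ∑ χ ∈ mid G St, ‖av p x χ‖ * ‖av r y χ‖ ≤ w) {ρ : ℝ} (hρ : 0 ≤ ρ)
    (hab : ρ * w < 1)
    (hrat : ∀ χ : IrrCharacter G, χ ≠ one1 G → χ ≠ St → ‖(χ : G → ℂ) g‖ ≤ ρ * ‖(χ : G → ℂ) 1‖) : Prd x y g := by
  have := Core.finite_irr (G := G)
  have := Fintype.ofFinite (IrrCharacter G)
  by_contra hno
  have h1 := h.one_le_sum hg hg' hSt hno
  have h2 : ∑ χ ∈ mid G St, ‖av p x χ‖ * ‖av r y χ‖ * (‖(χ : G → ℂ) g‖ / ‖(χ : G → ℂ) 1‖) ≤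
      ρ * ∑ χ ∈ mid G St, ‖av p x χ‖ * ‖av r y χ‖ := by
    rw [Finset.mul_sum]
    refine Finset.sum_le_sum fun χ hχ => ?_
    rw [mem_mid] at hχ
    have h3 : ‖(χ : G → ℂ) g‖ / ‖(χ : G → ℂ) 1‖ ≤ ρ := by
      rw [div_le_iff₀ (norm_one_pos χ)]
      exact hrat χ hχ.2 hχ.1
    calc ‖av p x χ‖ * ‖av r y χ‖ * (‖(χ : G → ℂ) g‖ / ‖(χ : G → ℂ) 1‖) ≤ ‖av p x χ‖ * ‖av r y χ‖ * ρ :=
          mul_le_mul_of_nonneg_left h3 (by positivity)
      _ = ρ * (‖av p x χ‖ * ‖av r y χ‖) := by ring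
  have h3 := mul_le_mul_of_nonneg_left hw hρ
  linarith

end Cfsg.Agent.H885.FT
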